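import Groth.Agent.Lib.FMBC15.Twist
import Groth.Agent.Lib.KSix19.BettiExact.Proj
import Groth.Agent.Lib.OX.HomTri

/-!
# Derived tensor products with shifted invertible modules; the projection formula on quasi-coherent complexes
-/

set_option autoImplicit false
set_option linter.all false
set_option backward.isDefEq.respectTransparency false
set_option maxHeartbeats 1000000

universe u

open CategoryTheory CategoryTheory.Limits AlgebraicGeometry HomologicalComplex

attribute [local instance] HasDerivedCategory.standard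

noncomputable section

namespace GrothLib.FMInv15

open GrothLib.OX

variable {X Y : Scheme.{u}}

/-- Tensoring with a module in degree zero, naturally in the complex. -/
def singleNatIso (F : X.Modules) :
    ((DCoh.tensorBi (X := X)).flip.obj F).mapHomologicalComplex (ComplexShape.up ℤ) ≅
      (DCoh.tensorCx (X := X)).flip.obj ((single X.Modules (ComplexShape.up ℤ) 0).obj F) :=
  NatIso.ofComponents (fun L => singleIso L F) (fun {L L'} φ => by
    refine HomologicalComplex.hom_ext _ _ fun n => ?_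
    change ((DCoh.tensorBi (X := X)).map (φ.f n)).app F ≫
        ((DCoh.tensorBi (X := X)).obj (L'.X n)).map (singleObjXSelf (ComplexShape.up ℤ) 0 F).inv ≫
          ιMapBifunctor L' _ (DCoh.tensorBi (X := X)) (ComplexShape.up ℤ) n 0 n (add_zero n) =
      (((DCoh.tensorBi (X := X)).obj (L.X n)).map (singleObjXSelf (ComplexShape.up ℤ) 0 F).inv ≫
          ιMapBifunctor L _ (DCoh.tensorBi (X := X)) (ComplexShape.up ℤ) n 0 n (add_zero n)) ≫
        (mapBifunctorMap φ (𝟙 _) (DCoh.tensorBi (X := X)) (ComplexShape.up ℤ)).f n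
    rw [Category.assoc, ι_mapBifunctorMap, id_f, CategoryTheory.Functor.map_id, Category.id_comp,
      ← reassoc_of% ((DCoh.tensorBi (X := X)).map (φ.f n)).naturality])

/-- Tensoring with a shifted complex, naturally in the complex. -/
def shiftNatIso (K : CochainComplex X.Modules ℤ) (y : ℤ) :
    (DCoh.tensorCx (X := X)).flip.obj (K⟦y⟧) ≅
      (DCoh.tensorCx (X := X)).flip.obj K ⋙ shiftFunctor (CochainComplex X.Modules ℤ) y :=
  NatIso.ofComponents (fun L => CochainComplex.mapBifunctorShift₂Iso L K (DCoh.tensorBi (X := X)) y)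
    (fun {L L'} φ => by
      refine HomologicalComplex.hom_ext _ _ fun n => mapBifunctor.hom_ext fun p q h => ?_
      change ιMapBifunctor L _ (DCoh.tensorBi (X := X)) (ComplexShape.up ℤ) p q n h ≫
          (mapBifunctorMap φ (𝟙 _) (DCoh.tensorBi (X := X)) (ComplexShape.up ℤ)).f n ≫
            (CochainComplex.mapBifunctorShift₂Iso L' K (DCoh.tensorBi (X := X)) y).hom.f n =
        ιMapBifunctor L _ (DCoh.tensorBi (X := X)) (ComplexShape.up ℤ) p q n h ≫
          (CochainComplex.mapBifunctorShift₂Iso L K (DCoh.tensorBi (X := X)) y).hom.f n ≫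
            ((mapBifunctorMap φ (𝟙 K) (DCoh.tensorBi (X := X)) (ComplexShape.up ℤ))⟦y⟧').f n
      simp [CochainComplex.ι_mapBifunctorShift₂Iso_hom_f _ _ _ _ _ _ _ _ (q + y) (n + y) rfl rfl,
        CochainComplex.ι_mapBifunctorShift₂Iso_hom_f_assoc _ _ _ _ _ _ _ _ (q + y) (n + y) rfl rfl]
      rfl)

/-- The derived tensor product with an invertible module in degree zero is the twist. -/
theorem nonempty_ltensorCx_single {N : X.Modules} (hN : PicF.IsInvertible N)
    [PreservesFiniteLimits (Euler.tF N)] [PreservesFiniteColimits (Euler.tF N)]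
    [DCoh.HasLTensorCx ((single X.Modules (ComplexShape.up ℤ) 0).obj N)] :
    Nonempty (DCoh.LTensorCx ((single X.Modules (ComplexShape.up ℤ) 0).obj N) ≅
      (Euler.tF N).mapDerivedCategory) := by
  let T := Euler.tF N
  let S := (single X.Modules (ComplexShape.up ℤ) 0).obj N
  let α : DerivedCategory.Q ⋙ T.mapDerivedCategory ⟶ DCoh.tensorCxQ S :=
    T.mapDerivedCategoryFactors.hom ≫ Functor.whiskerRight (singleNatIso N).hom DerivedCategory.Q
  haveI : T.mapDerivedCategory.IsLeftDerivedFunctor α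
      (HomologicalComplex.quasiIso X.Modules (ComplexShape.up ℤ)) :=
    (cxResolvable_tensor S).isLeftDerivedFunctor _ α fun A hA => by
      simp only [α, NatTrans.comp_app, Functor.whiskerRight_app]
      infer_instance
  exact ⟨Functor.leftDerivedUnique _ _ ((DCoh.tensorCxQ S).totalLeftDerivedCounit DerivedCategory.Q
    (HomologicalComplex.quasiIso X.Modules (ComplexShape.up ℤ))) α
    (HomologicalComplex.quasiIso X.Modules (ComplexShape.up ℤ))⟩

/-- The derived tensor product with a shifted complex. -/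
theorem nonempty_ltensorCx_shift (K : CochainComplex X.Modules ℤ) (y : ℤ) [DCoh.HasLTensorCx K]
    [DCoh.HasLTensorCx (K⟦y⟧)] :
    Nonempty (DCoh.LTensorCx (K⟦y⟧) ≅ DCoh.LTensorCx K ⋙ shiftFunctor (DCoh.D X) y) := by
  let α := (DCoh.tensorCxQ K).totalLeftDerivedCounit DerivedCategory.Q
    (HomologicalComplex.quasiIso X.Modules (ComplexShape.up ℤ))
  let e : DCoh.tensorCxQ K ⋙ shiftFunctor (DCoh.D X) y ≅ DCoh.tensorCxQ (K⟦y⟧) :=
    Functor.associator _ _ _ ≪≫ Functor.isoWhiskerLeft _ ((DerivedCategory.Q (C := X.Modules)).commShiftIso y).symm ≪≫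
      (Functor.associator _ _ _).symm ≪≫ Functor.isoWhiskerRight (shiftNatIso K y).symm _
  let β : DerivedCategory.Q ⋙ DCoh.LTensorCx K ⋙ shiftFunctor (DCoh.D X) y ⟶ DCoh.tensorCxQ (K⟦y⟧) :=
    (Functor.associator _ _ _).inv ≫ Functor.whiskerRight α _ ≫ e.hom
  haveI : (DCoh.LTensorCx K ⋙ shiftFunctor (DCoh.D X) y).IsLeftDerivedFunctor β
      (HomologicalComplex.quasiIso X.Modules (ComplexShape.up ℤ)) :=
    (cxResolvable_tensor (K⟦y⟧)).isLeftDerivedFunctor _ β fun A hA => by
      have := (cxResolvable_tensor K).isIso_app_of_isLeftDerivedFunctor _ α hA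
      simp only [β, NatTrans.comp_app, Functor.whiskerRight_app, Functor.associator_inv_app, Category.id_comp]
      infer_instance
  exact ⟨Functor.leftDerivedUnique _ _ ((DCoh.tensorCxQ (K⟦y⟧)).totalLeftDerivedCounit DerivedCategory.Q
    (HomologicalComplex.quasiIso X.Modules (ComplexShape.up ℤ))) β
    (HomologicalComplex.quasiIso X.Modules (ComplexShape.up ℤ))⟩

/-- The derived tensor product with a shifted invertible module. -/
theorem nonempty_ltensorCx_shift_single {N : X.Modules} (hN : PicF.IsInvertible N) (y : ℤ)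
    [PreservesFiniteLimits (Euler.tF N)] [PreservesFiniteColimits (Euler.tF N)]
    [DCoh.HasLTensorCx (((single X.Modules (ComplexShape.up ℤ) 0).obj N)⟦y⟧)] :
    Nonempty (DCoh.LTensorCx (((single X.Modules (ComplexShape.up ℤ) 0).obj N)⟦y⟧) ≅
      (Euler.tF N).mapDerivedCategory ⋙ shiftFunctor (DCoh.D X) y) := by
  haveI := OX.hasLTensorCx ((single X.Modules (ComplexShape.up ℤ) 0).obj N)
  obtain ⟨a⟩ := nonempty_ltensorCx_shift ((single X.Modules (ComplexShape.up ℤ) 0).obj N) y
  obtain ⟨b⟩ := nonempty_ltensorCx_single hN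
  exact ⟨a ≪≫ Functor.isoWhiskerRight b _⟩

/-- **The projection formula on quasi-coherent complexes.** -/
theorem nonempty_proj (f : X ⟶ Y) [QuasiCompact f] [QuasiSeparated f] [DCoh.HasLpull f] [DCoh.HasRpush f]
    (F : CochainComplex X.Modules ℤ) [DCoh.HasLTensorCx F] (hq : DCoh.IsQCohD (DerivedCategory.Q.obj F))
    (B : CochainComplex Y.Modules ℤ) [DCoh.HasLTensorCx B]
    (eB : DerivedCategory.Q.obj B ≅ (DCoh.Rpush f).obj (DerivedCategory.Q.obj F)) :
    Nonempty (ObjectProperty.ι (DCoh.IsQCohD (X := Y)) ⋙ DCoh.LTensorCx B ≅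
      ObjectProperty.ι (DCoh.IsQCohD (X := Y)) ⋙ DCoh.Lpull f ⋙ DCoh.LTensorCx F ⋙ DCoh.Rpush f) := by
  obtain ⟨A, a, ha, hA, hA'⟩ := KInj.exists_kInjective_resolution _ F
  let eA : DerivedCategory.Q.obj A ≅ DerivedCategory.Q.obj F := (asIso (DerivedCategory.Q.map a)).symm
  have hAq : DCoh.IsQCohD (DerivedCategory.Q.obj A) := KSix19.BettiExact.isQCohD_of_iso' eA.symm hq
  haveI := OX.hasLTensorCx A
  let B' := (pushCxF f).obj A
  haveI := OX.hasLTensorCx B'
  have hu : IsIso (pushUnit f A) :=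
    map_isIso_of (DCoh.pushKh f)
      (KInj.isIso_unit_of_rightOrthogonal (CochainComplex.IsKInjective.rightOrthogonal A))
  let eB' : DerivedCategory.Q.obj B' ≅ DerivedCategory.Q.obj B :=
    ((DerivedCategory.quotientCompQhIso Y.Modules).app B').symm ≪≫ @asIso _ _ _ _ _ hu ≪≫
      (SiteDer.Rres (rmor f)).mapIso ((DerivedCategory.quotientCompQhIso X.Modules).app A ≪≫ eA) ≪≫
        ((rpushIsoRres f).app _).symm ≪≫ eB.symm
  obtain ⟨τ⟩ := KSix19.BettiExact.nonempty_proj_iso f A ⟨hA', hA⟩ hAq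
  obtain ⟨T⟩ := KSix19.BettiExact.nonempty_iso_of_kflat (DCoh.LTensorCx B')
    (DCoh.Lpull f ⋙ DCoh.LTensorCx A ⋙ DCoh.Rpush f) τ
  obtain ⟨c⟩ := nonempty_ltensorCx_congr_of_iso eA
  obtain ⟨c'⟩ := nonempty_ltensorCx_congr_of_iso eB'
  exact ⟨Functor.isoWhiskerLeft _ c'.symm ≪≫ T ≪≫
    Functor.isoWhiskerLeft _ (Functor.isoWhiskerLeft _ (Functor.isoWhiskerRight c _))⟩

end GrothLib.FMInv15
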