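import Groth.Agent.Lib.Poincare.SkyscraperCor

/-!
# A coherent sheaf with finite support and one-dimensional sections is the skyscraper at a rational point
-/

set_option autoImplicit false
set_option linter.all false
set_option backward.isDefEq.respectTransparency false
set_option maxHeartbeats 1000000

universe u

open CategoryTheory CategoryTheory.Limits AlgebraicGeometry Opposite TopologicalSpace
open GrothLib.Ample GrothLib.Cube

noncomputable section

namespace GrothLib.FMInv15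

variable {X : Scheme.{u}} (M : X.Modules) {S : Set X}

/-- A germ at a point of a finite set of closed points carrying the support extends by zero to a global section. -/
theorem exists_section (hS : S.Finite) (hcl : ∀ s ∈ S, IsClosed ({s} : Set X)) (hsupp : CohB1.support M ⊆ S)
    {a : X} (ha : a ∈ S) (z : M.presheaf.stalk a) :
    ∃ t : Γ(M, ⊤), M.presheaf.germ ⊤ a trivial t = z ∧
      ∀ b : X, b ≠ a → M.presheaf.germ ⊤ b trivial t = 0 := by
  have hzero : ∀ w ∉ S, Subsingleton (M.presheaf.stalk w) := fun w hw => not_not.1 fun h => hw (hsupp h)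
  obtain ⟨U, haU, v, rfl⟩ := TopCat.Presheaf.exists_germ_eq M.presheaf z
  let O : X.Opens := ⟨{a}ᶜ, (hcl a ha).isOpen_compl⟩
  let C : X.Opens := ⟨(S \ {a})ᶜ, by
    rw [isOpen_compl_iff, ← Set.biUnion_of_singleton (S \ {a})]
    exact hS.sdiff.isClosed_biUnion fun s hs => hcl s hs.1⟩
  let U' : X.Opens := U ⊓ C
  have haU' : a ∈ U' := ⟨haU, fun h => h.2 rfl⟩
  let W : ULift.{u} Bool → X.Opens := fun i => if i.down then U' else O
  let sf : ∀ i, Γ(M, W i) := fun i => match i with
    | ⟨true⟩ => M.presheaf.map (homOfLE inf_le_left : U' ⟶ U).op v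
    | ⟨false⟩ => 0
  let Sh : TopCat.Sheaf Ab.{u} X.carrier := ⟨M.presheaf, M.isSheaf⟩
  have key : ∀ i j : ULift.{u} Bool, i ≠ j → ∀ w, w ∈ W i → w ∈ W j → Subsingleton (M.presheaf.stalk w) := by
    rintro ⟨_ | _⟩ ⟨_ | _⟩ hij w hi hj <;> first | exact absurd rfl hij | refine hzero w fun hw => ?_
    · exact hj.2 ⟨hw, hi⟩
    · exact hi.2 ⟨hw, hj⟩
  obtain ⟨t, ht, -⟩ := TopCat.Sheaf.existsUnique_gluing' Sh W ⊤ (fun i => homOfLE le_top) (fun w _ => by
      refine Opens.mem_iSup.2 ?_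
      by_cases h : w = a
      · subst h; exact ⟨⟨true⟩, haU'⟩
      · exact ⟨⟨false⟩, h⟩) sf (fun i j => by
      by_cases hij : i = j
      · subst hij; rfl
      · exact TopCat.Presheaf.section_ext Sh _ _ _ fun w hw => @Subsingleton.elim _ (key i j hij w hw.1 hw.2) _ _)
  refine ⟨t, ?_, fun b hb => ?_⟩
  · refine Eq.trans ?_ (QCoh.germ_map M (homOfLE inf_le_left : U' ⟶ U) haU' v)
    exact (QCoh.germ_map M (homOfLE le_top : U' ⟶ ⊤) haU' t).symm.trans
      (congrArg (M.presheaf.germ U' a haU') (ht ⟨true⟩))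
  · exact ((QCoh.germ_map M (homOfLE le_top : O ⟶ ⊤) (show b ∈ O from hb) t).symm.trans
      (congrArg (M.presheaf.germ O b hb) (ht ⟨false⟩))).trans (map_zero _)

/-- Without global sections there is no support. -/
theorem isZero_of_subsingleton_HH (hS : S.Finite) (hcl : ∀ s ∈ S, IsClosed ({s} : Set X))
    (hsupp : CohB1.support M ⊆ S) (h : Subsingleton (Coh.HH X M 0)) : IsZero M := by
  haveI : Subsingleton Γ(M, ⊤) := (ProjCoh.H0top M).symm.toEquiv.subsingleton
  refine OX.isZero_of_subsingleton_stalks _ fun w => ?_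
  by_cases hw : w ∈ S
  · refine subsingleton_of_forall_eq 0 fun z => ?_
    obtain ⟨t, rfl, -⟩ := exists_section M hS hcl hsupp hw z
    rw [Subsingleton.elim t 0, map_zero]
  · exact not_not.1 fun h' => hw (hsupp h')

variable {k : Type u} [Field k] {Y : Over (Spec (CommRingCat.of k))}

/-- The scalars of a rational point. -/
theorem eval_scalar (e : Spec (CommRingCat.of k) ⟶ Y.left) (he : e ≫ Y.hom = 𝟙 _) (V : Y.left.Opens)
    (hpt : (⊤ : (Spec (CommRingCat.of k)).Opens) ≤ e ⁻¹ᵁ V) (c : Γ(Spec (CommRingCat.of k), ⊤)) :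
    e.appLE V ⊤ hpt (Y.left.presheaf.map (homOfLE le_top : V ⟶ ⊤).op (Y.hom.appTop c)) = c := by
  rw [← CommRingCat.comp_apply, ← CommRingCat.comp_apply, Scheme.Hom.map_appLE]
  show ((Y.hom.appTop) ≫ e.appLE ⊤ ⊤ _).hom c = c
  rw [show e.appLE ⊤ ⊤ _ = e.appTop from (Scheme.Hom.app_eq_appLE e).symm, ← Scheme.Hom.comp_appTop, he,
    Scheme.Hom.id_appTop]
  rfl

/-- **A coherent sheaf with finite support, one-dimensional sections and a rational point in its support is the
skyscraper at that point.** -/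
theorem nonempty_iso_push_point (e' : Spec (CommRingCat.of k) ⟶ Y.left) [IsClosedImmersion e']
    (he' : e' ≫ Y.hom = 𝟙 _) (R' : Y.left.Modules) [R'.IsQuasicoherent] {S : Set Y.left} (hS : S.Finite)
    (hcl : ∀ s ∈ S, IsClosed ({s} : Set Y.left)) (hsupp : CohB1.support R' ⊆ S)
    (hmem : e' (IsLocalRing.closedPoint k) ∈ CohB1.support R')
    (h1 : @Module.finrank k (Coh.HH Y.left R' 0) _ _ (@Coh.moduleOver k _ Y.left ⟨Y.hom⟩ R' 0) = 1) :
    Nonempty (R' ≅ (Coh.push e').obj (Coh.structureModule (Spec (CommRingCat.of k)))) := by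
  letI : Y.left.Over (Spec (CommRingCat.of k)) := ⟨Y.hom⟩
  let e₀ := e' (IsLocalRing.closedPoint k)
  let Sh : TopCat.Sheaf Ab.{u} Y.left.carrier := ⟨R'.presheaf, R'.isSheaf⟩
  have he₀ : IsClosed ({e₀} : Set Y.left) := hcl _ (hsupp hmem)
  obtain ⟨z₀, hz₀⟩ : ∃ z : R'.presheaf.stalk e₀, z ≠ 0 := by
    by_contra h
    exact hmem (subsingleton_of_forall_eq 0 fun z => not_not.1 fun hz => h ⟨z, hz⟩)
  obtain ⟨t₀, ht₀, ht₀'⟩ := exists_section R' hS hcl hsupp (hsupp hmem) z₀
  let γ : k → Γ(Y.left, ⊤) := fun a => Y.hom.appTop ((Scheme.ΓSpecIso (CommRingCat.of k)).inv a)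
  have hgen : ∀ t : Γ(R', ⊤), ∃ a : k, t = γ a • t₀ := fun t => by
    obtain ⟨a, ha⟩ := (finrank_eq_one_iff_of_nonzero' ((ProjCoh.H0top R').symm t₀) (fun h => hz₀ (by
      rw [← ht₀, show t₀ = 0 from (ProjCoh.H0top R').symm.injective (h.trans (map_zero _).symm), map_zero]))).1 h1
        ((ProjCoh.H0top R').symm t)
    refine ⟨a, ?_⟩
    have h := congrArg (ProjCoh.H0top R') ha
    rw [ProjCoh.H0top_smul, AddEquiv.apply_symm_apply, AddEquiv.apply_symm_apply] at h
    exact h.symm
  have honly : ∀ w, w ∈ CohB1.support R' → w = e₀ := fun w hw => by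
    by_contra hne
    refine hw (subsingleton_of_forall_eq 0 fun z => ?_)
    obtain ⟨t, rfl, -⟩ := exists_section R' hS hcl hsupp (hsupp hw) z
    obtain ⟨a, rfl⟩ := hgen t
    refine (WeakAss.germ_smul (V := ⊤) trivial _ _).trans ?_
    rw [ht₀' w hne, smul_zero]
  have hext : ∀ (V : Y.left.Opens) (heV : e₀ ∈ V) (u v : Γ(R', V)),
      R'.presheaf.germ V e₀ heV u = R'.presheaf.germ V e₀ heV v → u = v := fun V heV u v h => by
    refine TopCat.Presheaf.section_ext Sh V _ _ fun w hw => ?_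
    by_cases hwe : w = e₀
    · subst hwe; exact h
    · exact @Subsingleton.elim _ (not_not.1 fun h' => hwe (honly w h')) _ _
  obtain ⟨V, hV, heV, -⟩ := exists_isAffineOpen_mem_and_subset (x := e₀) (U := (⊤ : Y.left.Opens)) trivial
  let R₀ := Γ(Y.left, V)
  let Q := hV.primeIdealOf ⟨e₀, heV⟩
  haveI hQmax : Q.asIdeal.IsMaximal := by
    refine (PrimeSpectrum.isClosed_singleton_iff_isMaximal Q).1 ?_
    show IsClosed ({Q} : Set (Spec Γ(Y.left, V)))
    rw [show ({Q} : Set (Spec Γ(Y.left, V))) = hV.fromSpec ⁻¹' {e₀} from ?_]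
    · exact he₀.preimage hV.fromSpec.continuous
    refine Set.ext fun w => ⟨fun hw => ?_, fun hw => hV.fromSpec.isOpenEmbedding.injective ?_⟩
    · rw [Set.mem_singleton_iff] at hw; rw [hw]; exact hV.fromSpec_primeIdealOf _
    · exact (show hV.fromSpec w = e₀ from hw).trans (hV.fromSpec_primeIdealOf ⟨e₀, heV⟩).symm
  have hpt : ∀ w : Spec (CommRingCat.of k), e' w ∈ V := fun w => by
    obtain rfl : w = IsLocalRing.closedPoint k := Subsingleton.elim (α := PrimeSpectrum k) _ _
    exact heV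
  let ev : R₀ →+* Γ(Spec (CommRingCat.of k), ⊤) := (e'.appLE V ⊤ (fun w _ => hpt w)).hom
  have hev : ∀ a ∈ Q.asIdeal, ev a = 0 := fun a ha => by
    haveI : IsField Γ(Spec (CommRingCat.of k), ⊤) :=
      MulEquiv.isField (Field.toIsField k) (Scheme.ΓSpecIso (CommRingCat.of k)).commRingCatIsoToRingEquiv.toMulEquiv
    by_contra h0
    obtain ⟨u, hu⟩ := ‹IsField Γ(Spec (CommRingCat.of k), ⊤)›.mul_inv_cancel h0
    have h2 : IsLocalRing.closedPoint k ∈ (Spec (CommRingCat.of k)).basicOpen (ev a) := by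
      rw [Scheme.basicOpen_of_isUnit _ (IsUnit.of_mul_eq_one u hu)]; trivial
    rw [show ev a = e'.appLE V ⊤ _ a from rfl, Scheme.basicOpen_appLE] at h2
    exact (BCCrit.notMem_primeIdealOf hV heV a).2 h2.2 ha
  let s₀ : Γ(R', V) := R'.presheaf.map (homOfLE le_top : V ⟶ ⊤).op t₀
  let rs : k → R₀ := fun a => Y.left.presheaf.map (homOfLE le_top : V ⟶ ⊤).op (γ a)
  have hrs : ∀ a, ev (rs a) = (Scheme.ΓSpecIso (CommRingCat.of k)).inv a := fun a => eval_scalar e' he' V _ _
  have hs₀ : R'.presheaf.germ V e₀ heV s₀ = z₀ :=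
    (QCoh.germ_map R' (homOfLE le_top : V ⟶ ⊤) heV t₀).trans ht₀
  have hVgen : ∀ v : Γ(R', V), ∃ a : k, v = rs a • s₀ := fun v => by
    obtain ⟨t, ht, -⟩ := exists_section R' hS hcl hsupp (hsupp hmem) (R'.presheaf.germ V e₀ heV v)
    obtain ⟨a, rfl⟩ := hgen t
    refine ⟨a, hext V heV _ _ (ht.symm.trans ?_)⟩
    rw [← Scheme.Modules.map_smul]
    exact (QCoh.germ_map R' (homOfLE le_top : V ⟶ ⊤) heV (γ a • t₀)).symm
  have hkillQ0 : ∀ c ∈ Q.asIdeal, c • s₀ = 0 := fun c hc => by
    obtain ⟨a, ha⟩ := hVgen (c • s₀)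
    by_cases h0 : a = 0
    · subst h0
      rw [ha, show rs 0 = 0 by simp [rs, γ], zero_smul]
    exfalso
    have hd : c - rs a ∉ Q.asIdeal := fun h => by
      have h2 := hev _ h
      rw [map_sub, hev c hc, hrs, zero_sub, neg_eq_zero] at h2
      exact h0 ((ConcreteCategory.bijective_of_isIso (Scheme.ΓSpecIso (CommRingCat.of k)).inv).1
        (h2.trans (map_zero _).symm))
    have hu : IsUnit (Y.left.presheaf.germ V e₀ heV (c - rs a)) :=
      (Scheme.mem_basicOpen _ _ e₀ heV).1 ((BCCrit.notMem_primeIdealOf hV heV _).1 hd)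
    refine hz₀ (hu.smul_eq_zero.1 ?_)
    rw [← hs₀, ← WeakAss.germ_smul heV, sub_smul, ha, sub_self, map_zero]
  have hs₀ne : s₀ ≠ 0 := fun h => hz₀ (by rw [← hs₀, h, map_zero])
  let φ : R₀ →ₗ[R₀] Γ(R', V) := LinearMap.toSpanSingleton R₀ _ s₀
  have hker : LinearMap.ker φ = Q.asIdeal := by
    refine (hQmax.eq_of_le ?_ fun c hc => hkillQ0 c hc).symm
    intro htop
    exact hs₀ne ((one_smul R₀ s₀).symm.trans (LinearMap.mem_ker.1 (htop.ge (Submodule.mem_top : (1 : R₀) ∈ ⊤))))
  let E : Γ(R', V) ≃ₗ[R₀] R₀ ⧸ Q.asIdeal :=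
    (Submodule.quotEquivOfEq _ _ hker.symm ≪≫ₗ LinearMap.quotKerEquivOfSurjective φ fun v => by
      obtain ⟨a, rfl⟩ := hVgen v
      exact ⟨rs a, rfl⟩).symm
  have hkill : ClSub.KilledByIdeal e'.ker R' := by
    intro W c hc z
    rw [Scheme.Hom.ker_apply, RingHom.mem_ker] at hc
    refine TopCat.Presheaf.section_ext (C := Ab.{u}) (X := Y.left.carrier) ⟨R'.presheaf, R'.isSheaf⟩ W.1 _ _
      fun w hw => ?_
    by_cases hwe : w = e₀
    swap
    · haveI : Subsingleton (R'.presheaf.stalk w) :=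
        not_not.1 fun h => hwe (honly w h)
      exact Subsingleton.elim _ _
    subst hwe
    refine Eq.trans ?_ (map_zero (R'.presheaf.germ W.1 e₀ hw).hom).symm
    refine (WeakAss.germ_smul hw c z).trans ?_
    letI := Y.left.presheaf.algebra_section_stalk ⟨e₀, heV⟩
    haveI := hV.isLocalization_stalk ⟨e₀, heV⟩
    letI : Module Γ(Y.left, V) (R'.presheaf.stalk e₀) := Module.compHom _ (Y.left.presheaf.germ V e₀ heV).hom
    obtain ⟨ν, hν, -⟩ := FlatFP.isLocalizedModule_germ R' hV heV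
    haveI := hν
    have hkillQ : ∀ c' ∈ Q.asIdeal, ∀ s : R'.presheaf.stalk e₀, c' • s = 0 := fun c' hc' s => by
      obtain ⟨⟨s', w⟩, hs'⟩ := IsLocalizedModule.surj (WeakAss.primeAt e₀ heV).primeCompl ν s
      refine ((Module.End.isUnit_iff _).1 (IsLocalizedModule.map_units ν w)).1 ?_
      refine (smul_comm (w : Γ(Y.left, V)) c' s).trans (Eq.trans ?_ (map_zero _).symm)
      rw [show (w : Γ(Y.left, V)) • s = ν s' from hs', ← map_smul]
      have h0 : c' • s' = (0 : Γ(R', V)) := E.injective (by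
        rw [map_smul, map_zero]
        obtain ⟨r, hr⟩ := Submodule.Quotient.mk_surjective _ (E s')
        rw [← hr, ← Submodule.Quotient.mk_smul, Submodule.Quotient.mk_eq_zero]
        exact Q.asIdeal.mul_mem_right r hc')
      exact (congrArg ν h0).trans (map_zero ν)
    obtain ⟨c', t, ht⟩ := IsLocalization.exists_mk'_eq Q.asIdeal.primeCompl (Y.left.presheaf.germ W.1 e₀ hw c)
    have hspec : algebraMap Γ(Y.left, V) (Y.left.presheaf.stalk e₀) c' =
        algebraMap Γ(Y.left, V) (Y.left.presheaf.stalk e₀) t * Y.left.presheaf.germ W.1 e₀ hw c := by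
      rw [← ht, IsLocalization.mk'_spec']
    have hmax : Y.left.presheaf.germ W.1 e₀ hw c ∈ IsLocalRing.maximalIdeal (Y.left.presheaf.stalk e₀) := by
      rw [IsLocalRing.mem_maximalIdeal, mem_nonunits_iff, ← Scheme.mem_basicOpen _ c e₀ hw]
      intro h
      have h1 : IsLocalRing.closedPoint k ∈ e' ⁻¹ᵁ Y.left.basicOpen c := h
      rw [Scheme.preimage_basicOpen, hc, Scheme.basicOpen_zero] at h1
      exact h1
    have hc' : c' ∈ Q.asIdeal := by
      refine (IsLocalization.AtPrime.to_map_mem_maximal_iff (Y.left.presheaf.stalk e₀) Q.asIdeal c').1 ?_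
      rw [hspec]
      exact Ideal.mul_mem_left _ _ hmax
    refine ((Module.End.isUnit_iff _).1 (IsLocalizedModule.map_units ν (⟨t.1, fun h =>
      (IsLocalRing.mem_maximalIdeal _).1 h (IsLocalization.map_units (Y.left.presheaf.stalk e₀) t)⟩ :
        (WeakAss.primeAt e₀ heV).primeCompl))).1 ?_
    refine Eq.trans ?_ (map_zero _).symm
    show Y.left.presheaf.germ V e₀ heV t.1 • (Y.left.presheaf.germ W.1 e₀ hw c • R'.presheaf.germ W.1 e₀ hw z) = 0
    rw [smul_smul]
    exact (congrArg (fun r => r • R'.presheaf.germ W.1 e₀ hw z) hspec.symm).trans (hkillQ c' hc' _)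
  haveI : IsIso ((Scheme.Modules.pullbackPushforwardAdjunction e').unit.app R') :=
    QCoh.isIso_unit_of_killed e' R' hkill
  let η' := (Scheme.Modules.pullbackPushforwardAdjunction e').unit.app R'
  let N := (Scheme.Modules.pullback e').obj R'
  have htopV : e' ⁻¹ᵁ V = ⊤ := top_le_iff.1 fun w _ => hpt w
  have hbij : Function.Bijective (η'.app V) := ConcreteCategory.bijective_of_isIso (η'.app V)
  let s₀ : Γ(R', V) := E.symm (Submodule.Quotient.mk 1)
  let s : Γ(N, ⊤) := N.presheaf.map (homOfLE htopV.ge).op (η'.app V s₀)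
  have hiso : IsIso (FinCov.homOfSection s) := by
    rw [Scheme.Modules.Hom.isIso_iff_isIso_app]
    intro W
    rw [ConcreteCategory.isIso_iff_bijective]
    haveI : Subsingleton ↥(Spec (CommRingCat.of k)) := inferInstanceAs (Subsingleton (PrimeSpectrum k))
    by_cases hW : IsLocalRing.closedPoint k ∈ W
    swap
    · have hWb : W = ⊥ := le_bot_iff.1 fun w hw =>
        (hW (Subsingleton.elim (α := PrimeSpectrum k) w (IsLocalRing.closedPoint k) ▸ hw)).elim
      subst hWb
      haveI : Subsingleton Γ(Coh.structureModule (Spec (CommRingCat.of k)), (⊥ : (Spec (CommRingCat.of k)).Opens)) :=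
        Cohom.subsingleton_sections_bot (Coh.toAb _)
      haveI : Subsingleton Γ(N, (⊥ : (Spec (CommRingCat.of k)).Opens)) := Cohom.subsingleton_sections_bot (Coh.toAb _)
      exact ⟨fun a b _ => Subsingleton.elim _ _, fun b => ⟨0, Subsingleton.elim _ _⟩⟩
    have hWt : W = ⊤ := top_le_iff.1 fun w _ =>
      Subsingleton.elim (α := PrimeSpectrum k) (IsLocalRing.closedPoint k) w ▸ hW
    subst hWt
    have happ : ∀ c : Γ(Spec (CommRingCat.of k), ⊤),
        (FinCov.homOfSection s).app ⊤ (c : Γ(Coh.structureModule (Spec (CommRingCat.of k)), ⊤)) = c • s := fun c =>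
      (congrArg ((FinCov.homOfSection s).app ⊤) (FinCov.smul_one ⊤ c).symm).trans
        ((Scheme.Modules.Hom.app_smul _ c _).trans (congrArg (c • ·) ((FinCov.homOfSection_one s ⊤).trans
          ((congrArg (fun q => N.presheaf.map q s) (Subsingleton.elim _ (𝟙 _))).trans (by
            rw [CategoryTheory.Functor.map_id]; rfl)))))
    have hres : Function.Bijective (N.presheaf.map (homOfLE htopV.ge).op) := by
      haveI : IsIso (homOfLE htopV.ge) := by
        rw [show homOfLE htopV.ge = eqToHom htopV.symm from Subsingleton.elim _ _]; infer_instance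
      exact ConcreteCategory.bijective_of_isIso _
    have hs0 : s ≠ 0 := fun h => by
      have h1 : s₀ = 0 := hbij.1 ((hres.1 (h.trans (map_zero _).symm)).trans (map_zero _).symm)
      have h2 : (Submodule.Quotient.mk 1 : R₀ ⧸ Q.asIdeal) = 0 := by
        rw [← E.apply_symm_apply (Submodule.Quotient.mk 1)]
        exact (congrArg E h1).trans (map_zero E)
      exact hQmax.ne_top ((Ideal.eq_top_iff_one _).2 ((Submodule.Quotient.mk_eq_zero _).1 h2))
    refine ⟨fun c d hcd => ?_, fun t => ?_⟩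
    · have h1 : (show Γ(Spec (CommRingCat.of k), ⊤) from c) • s = (show Γ(Spec (CommRingCat.of k), ⊤) from d) • s :=
        (happ c).symm.trans (hcd.trans (happ d))
      by_contra hne
      have hF : IsField Γ(Spec (CommRingCat.of k), ⊤) := MulEquiv.isField (Field.toIsField k)
        (Scheme.ΓSpecIso (CommRingCat.of k)).commRingCatIsoToRingEquiv.toMulEquiv
      obtain ⟨v, hv⟩ := hF.mul_inv_cancel (a := (show Γ(Spec (CommRingCat.of k), ⊤) from c) -
        (show Γ(Spec (CommRingCat.of k), ⊤) from d)) (sub_ne_zero.2 hne)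
      refine hs0 ?_
      rw [← one_smul Γ(Spec (CommRingCat.of k), ⊤) s, ← hv, _root_.mul_comm, mul_smul, sub_smul, h1, sub_self, smul_zero]
    · obtain ⟨w, hw⟩ := hres.2 t
      obtain ⟨r, rfl⟩ := hbij.2 w
      obtain ⟨a, ha⟩ := Submodule.Quotient.mk_surjective _ (E r)
      have hr : r = a • s₀ := E.injective (by
        rw [map_smul, E.apply_symm_apply, ← Submodule.Quotient.mk_smul, smul_eq_mul, _root_.mul_one, ha])
      refine ⟨(show Γ(Coh.structureModule (Spec (CommRingCat.of k)), ⊤) from ev a), (happ _).trans ?_⟩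
      rw [← hw, hr, Scheme.Modules.Hom.app_smul]
      exact (Scheme.Modules.map_smul N (homOfLE htopV.ge) (e'.app V a) (η'.app V s₀)).symm
  exact ⟨asIso η' ≪≫ (Scheme.Modules.pushforward e').mapIso (@asIso _ _ _ _ _ hiso).symm⟩

end GrothLib.FMInv15
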