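import Groth.Agent.Lib.FMInv15.Tensor
import Groth.Agent.Lib.FMBC15.PhiPull

/-!
# Composing the Fourier–Mukai transform with the transform of the transposed kernel

For a kernel `M` on `A × B` additive in `A` whose direct image to `A` is the skyscraper at the origin in degree `g`
the composite of the two transforms is `[-1]^*[-g]`.
-/

set_option autoImplicit false
set_option linter.all false
set_option backward.isDefEq.respectTransparency false
set_option maxHeartbeats 2000000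

universe u

open CategoryTheory CategoryTheory.Limits AlgebraicGeometry
open MonoidalCategory CartesianMonoidalCategory
open GrothLib.Cube
open scoped MonObj

attribute [local instance] HasDerivedCategory.standard

noncomputable section

namespace GrothLib.FMInv15

open GrothLib.FMBC15

section

variable {X Y : Scheme.{u}}

/-- Derived direct image along the identity. -/
theorem nonempty_rpush_id (X : Scheme.{u}) [DCoh.HasRpush (𝟙 X)] : Nonempty (DCoh.Rpush (𝟙 X) ≅ 𝟭 (DCoh.D X)) := by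
  haveI : DCoh.HasLpull (𝟙 X) := OX.hasLpull _
  obtain ⟨adj⟩ := OX.nonempty_lpullAdj (𝟙 X)
  obtain ⟨i⟩ := nonempty_lpull_id X
  exact ⟨(adj.ofNatIsoLeft i).rightAdjointUniq (Adjunction.id)⟩

/-- Derived direct image along equal morphisms. -/
def rpushCongr {f g : X ⟶ Y} (h : f = g) [DCoh.HasRpush f] [DCoh.HasRpush g] : DCoh.Rpush f ≅ DCoh.Rpush g :=
  OX.rpushIsoRres f ≪≫ OX.RRCongr h ≪≫ (OX.rpushIsoRres g).symm

/-- Shifts of quasi-coherent modules. -/
theorem isQCohD_inD_shift (M : X.Modules) (h : Coh.IsQCoh M) (n : ℤ) : DCoh.IsQCohD ((DCoh.inD X M)⟦n⟧) :=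
  OX.isQCohD_shift (isQCohD_inD M h) n

/-- A module in degree zero, shifted, as a complex. -/
def cxQIso (M : X.Modules) (n : ℤ) :
    DerivedCategory.Q.obj (((HomologicalComplex.single X.Modules (ComplexShape.up ℤ) 0).obj M)⟦n⟧) ≅
      (DCoh.inD X M)⟦n⟧ :=
  ((DerivedCategory.Q (C := X.Modules)).commShiftIso n).app _ ≪≫
    (shiftFunctor (DCoh.D X) n).mapIso ((DerivedCategory.singleFunctorIsoCompQ X.Modules 0).app M).symm

/-- A module in degree zero, as a complex. -/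
def singleQIso (M : X.Modules) :
    DerivedCategory.Q.obj ((HomologicalComplex.single X.Modules (ComplexShape.up ℤ) 0).obj M) ≅ DCoh.inD X M :=
  ((DerivedCategory.singleFunctorIsoCompQ X.Modules 0).app M).symm

/-- Flat pullback of a shifted structure sheaf. -/
theorem nonempty_lpull_unit_shift (f : X ⟶ Y) [Flat f] [DCoh.HasLpull f] (n : ℤ) :
    Nonempty ((DCoh.Lpull f).obj ((DCoh.inD Y (Coh.structureModule Y))⟦n⟧) ≅
      (DCoh.inD X (Coh.structureModule X))⟦n⟧) := by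
  obtain ⟨_, _, _⟩ := FMTrans15.exact_pullback f
  obtain ⟨l⟩ := DualRing.nonempty_lpull_flat f
  obtain ⟨u⟩ := ((hasCls_structureModule Y).pullback f).iso (hasCls_structureModule X) (map_one _)
  exact ⟨l.app _ ≪≫ ((Scheme.Modules.pullback f).mapDerivedCategory.commShiftIso n).app _ ≪≫
    (shiftFunctor (DCoh.D X) n).mapIso
      (((Scheme.Modules.pullback f).mapDerivedCategorySingleFunctor 0).app _ ≪≫
        (DerivedCategory.singleFunctor X.Modules 0).mapIso u)⟩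

end

variable {k : Type u} [Field k] {A B : Over (Spec (CommRingCat.of k))}

/-- The sum map `(x, t, y) ↦ (x + y, t)`. -/
def sumMap [GrpObj A] : A ⊗ (B ⊗ A) ⟶ A ⊗ B :=
  lift (fst A (B ⊗ A) * (snd A (B ⊗ A) ≫ snd B A)) (snd A (B ⊗ A) ≫ fst B A)

/-- The sum map is the base change of the addition. -/
theorem isPullback_sumMap [GrpObj A] :
    IsPullback (sumMap (A := A) (B := B)).left (A ◁ snd B A).left (fst A B).left μ[A].left := by
  have e : (sumMap (A := A) (B := B)).left ≫ (snd A B).left = (snd A (B ⊗ A)).left ≫ (fst B A).left := by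
    rw [sumMap, ← Over.comp_left, lift_snd, Over.comp_left]
  refine IsPullback.of_right (h₁₂ := (snd A B).left) (v₁₃ := B.hom) (h₂₂ := A.hom) ?_ ?_ ?_
  · have hμ : μ[A].left ≫ A.hom = (snd A A).left ≫ A.hom := (Over.w μ[A]).trans (Over.w (snd A A)).symm
    rw [e, hμ]
    exact (FMBC15.isPullback_whiskerLeft A (snd B A)).flip.paste_horiz (IsPullback.of_hasPullback B.hom A.hom)
  · rw [← Over.comp_left, ← Over.comp_left, sumMap, lift_fst, mul_eq, MonObj.comp_mul, whiskerLeft_fst,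
      whiskerLeft_snd]
  · exact (IsPullback.of_hasPullback A.hom B.hom).flip

/-- The antidiagonal. -/
def antiDiag [GrpObj A] : A ⟶ A ⊗ A := lift (𝟙 A)⁻¹ (𝟙 A)

/-- The antidiagonal is the fibre of the addition over the origin. -/
theorem isPullback_antiDiag [GrpObj A] :
    IsPullback A.hom (antiDiag (A := A)).left η[A].left μ[A].left := by
  have h : IsPullback (antiDiag (A := A) ≫ (shear (A := A)).hom).left A.hom (fst A A).left η[A].left := by
    have e : antiDiag (A := A) ≫ (shear (A := A)).hom = lift (toUnit A ≫ η[A]) (𝟙 A) := by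
      refine CartesianMonoidalCategory.hom_ext _ _ ?_ ?_
      · rw [Category.assoc, shear, lift_fst, mul_eq, MonObj.comp_mul, antiDiag, lift_fst, lift_snd, inv_mul_cancel,
          lift_fst, Hom.one_def]
      · rw [Category.assoc, shear, lift_snd, antiDiag, lift_snd, lift_snd]
    rw [e]
    refine IsPullback.of_right (h₁₂ := (snd A A).left) (v₁₃ := A.hom) (h₂₂ := A.hom) ?_ ?_
      (IsPullback.of_hasPullback A.hom A.hom).flip
    · rw [← Over.comp_left, lift_snd, Over.id_left, Over.w η[A]]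
      haveI : IsIso (𝟙_ (Over (Spec (CommRingCat.of k)))).hom := by
        show IsIso (𝟙 (Spec (CommRingCat.of k))); infer_instance
      exact IsPullback.of_horiz_isIso ⟨by simp⟩
    · rw [← Over.comp_left, lift_fst, Over.comp_left]
      rfl
  refine (h.of_iso (Iso.refl _) ((Over.forget _).mapIso (shear (A := A))).symm (Iso.refl _) (Iso.refl _)
    ?_ ?_ ?_ ?_).flip
  · show (antiDiag ≫ shear.hom).left ≫ (shear.inv).left = 𝟙 _ ≫ antiDiag.left
    rw [← Over.comp_left, Category.assoc, Iso.hom_inv_id, Category.comp_id, Category.id_comp]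
  · simp
  · show (fst A A).left ≫ 𝟙 _ = (shear (A := A)).inv.left ≫ μ[A].left
    rw [Category.comp_id, ← Over.comp_left]
    have h1 : (shear (A := A)).hom ≫ fst A A = μ[A] := lift_fst _ _
    rw [← h1, Iso.inv_hom_id_assoc]
  · simp

section

variable [GrpObj A] [IsProper A.hom] [Smooth A.hom] [IsProper B.hom] [Smooth B.hom]
  {M : (A ⊗ B).left.Modules} {M' : (B ⊗ A).left.Modules}

theorem nonempty_comp (hM : PicF.IsInvertible M) (hM' : HasCls M' (PolSym15.pair (clsMod hM) (snd B A) (fst B A)))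
    (hbil : ∀ {T : Over (Spec (CommRingCat.of k))} (f f' : T ⟶ A) (b : T ⟶ B),
      PolSym15.pair (clsMod hM) (f * f') b = PolSym15.pair (clsMod hM) f b * PolSym15.pair (clsMod hM) f' b)
    (g : ℕ) [DCoh.HasRpush (fst A B).left] [DCoh.HasRpush η[A].left]
    (hsky : Nonempty ((DCoh.Rpush (fst A B).left).obj (DCoh.inD (A ⊗ B).left M) ≅
      (DCoh.Rpush η[A].left).obj
        ((DCoh.inD (Spec (CommRingCat.of k)) (Coh.structureModule (Spec (CommRingCat.of k))))⟦-(g : ℤ)⟧)))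
    [DCoh.HasLpull (fst A B).left] [DCoh.HasLTensorMod M] [DCoh.HasRpush (snd A B).left]
    [DCoh.HasLpull (fst B A).left] [DCoh.HasLTensorMod M'] [DCoh.HasRpush (snd B A).left]
    [DCoh.HasLpull ((𝟙 A)⁻¹).left] :
    Nonempty (ObjectProperty.ι (DCoh.IsQCohD (X := A.left)) ⋙
        (DCoh.Lpull (fst A B).left ⋙ DCoh.LTensorMod M ⋙ DCoh.Rpush (snd A B).left) ⋙
        (DCoh.Lpull (fst B A).left ⋙ DCoh.LTensorMod M' ⋙ DCoh.Rpush (snd B A).left) ≅
      ObjectProperty.ι (DCoh.IsQCohD (X := A.left)) ⋙ DCoh.Lpull ((𝟙 A)⁻¹).left ⋙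
        shiftFunctor (DCoh.D A.left) (-(g : ℤ))) := by
  obtain ⟨esky⟩ := hsky
  let X3 := (A ⊗ (B ⊗ A)).left
  let ρ : X3 ⟶ (A ⊗ B).left := (A ◁ fst B A).left
  let π : X3 ⟶ (B ⊗ A).left := (snd A (B ⊗ A)).left
  let τ : X3 ⟶ (A ⊗ A).left := (A ◁ snd B A).left
  let n : X3 ⟶ (A ⊗ B).left := (sumMap (A := A) (B := B)).left
  let p₁ : X3 ⟶ A.left := (fst A (B ⊗ A)).left
  let f₁ : (A ⊗ A).left ⟶ A.left := (fst A A).left
  let f₂ : (A ⊗ A).left ⟶ A.left := (snd A A).left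
  let qB := (snd A B).left
  let qA := (snd B A).left
  let Δ : A.left ⟶ (A ⊗ A).left := (antiDiag (A := A)).left
  let N := (Scheme.Modules.pullback n).obj M
  let M1 := (Scheme.Modules.pullback ρ).obj M
  let M2 := (Scheme.Modules.pullback π).obj M'
  let OA := Coh.structureModule A.left
  let Ok := Coh.structureModule (Spec (CommRingCat.of k))
  have hc := hasCls_clsMod (X := (A ⊗ B).left) hM
  have hN : PicF.IsInvertible N := (hc.pullback _).1
  have hM1 : PicF.IsInvertible M1 := (hc.pullback _).1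
  have hM2 : PicF.IsInvertible M2 := (hM'.pullback _).1
  have hOA : PicF.IsInvertible OA := (hasCls_structureModule _).1
  -- the product of the two kernels
  obtain ⟨m⟩ : Nonempty (((DCoh.tensorBi (X := X3)).obj M1).obj M2 ≅ N) := by
    refine ((hc.pullback ρ).tensor (hM'.pullback π)).iso (hc.pullback n) ?_
    have e1 : A ◁ fst B A = lift (fst A (B ⊗ A)) (snd A (B ⊗ A) ≫ fst B A) :=
      CartesianMonoidalCategory.hom_ext _ _ (by rw [whiskerLeft_fst, lift_fst])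
        (by rw [whiskerLeft_snd, lift_snd])
    show pull (A ◁ fst B A).left _ * pull (snd A (B ⊗ A)).left _ = PolSym15.pair (clsMod hM) _ _
    rw [hbil, PolSym15.pull_pair, e1]
    rfl
  -- geometry
  haveI : Flat qB := by show Flat (pullback.snd A.hom B.hom); infer_instance
  haveI : IsSeparated qB := by show IsSeparated (pullback.snd A.hom B.hom); infer_instance
  haveI : QuasiCompact qB := by show QuasiCompact (pullback.snd A.hom B.hom); infer_instance
  haveI : Flat (fst A B).left := by show Flat (pullback.fst A.hom B.hom); infer_instance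
  haveI : IsSeparated (fst A B).left := by show IsSeparated (pullback.fst A.hom B.hom); infer_instance
  haveI : QuasiCompact (fst A B).left := by show QuasiCompact (pullback.fst A.hom B.hom); infer_instance
  haveI : Flat μ[A].left := MorphismProperty.of_isPullback (P := @Flat) (isPullback_shear (A := A)).flip
    (inferInstance : Flat A.hom)
  haveI : IsClosedImmersion η[A].left := isClosedImmersion_of_comp_eq_id A.hom η[A].left (Over.w η[A])
  haveI : DCoh.HasRpush (X := Spec (CommRingCat.of k)) η[A].left := ‹DCoh.HasRpush η[A].left›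
  haveI : IsClosedImmersion (X := Spec (CommRingCat.of k)) η[A].left := ‹IsClosedImmersion η[A].left›
  haveI : IsClosedImmersion Δ := MorphismProperty.of_isPullback (P := @IsClosedImmersion)
    (isPullback_antiDiag (A := A)) ‹IsClosedImmersion η[A].left›
  haveI : IsSeparated τ := MorphismProperty.of_isPullback (P := @IsSeparated) (isPullback_sumMap (A := A) (B := B))
    ‹IsSeparated (fst A B).left›
  haveI : QuasiCompact τ := MorphismProperty.of_isPullback (P := @QuasiCompact) (isPullback_sumMap (A := A) (B := B))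
    ‹QuasiCompact (fst A B).left›
  haveI : A.left.IsSeparated := ⟨by rw [← terminal.comp_from A.hom]; infer_instance⟩
  haveI : B.left.IsSeparated := ⟨by rw [← terminal.comp_from B.hom]; infer_instance⟩
  haveI : CompactSpace A.left := QuasiCompact.compactSpace_of_compactSpace A.hom
  haveI : CompactSpace B.left := QuasiCompact.compactSpace_of_compactSpace B.hom
  haveI : CompactSpace (A ⊗ B).left := QuasiCompact.compactSpace_of_compactSpace qB
  haveI : CompactSpace (𝟙_ (Over (Spec (CommRingCat.of k)))).left := by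
    show CompactSpace (Spec (CommRingCat.of k)); infer_instance
  -- existence of the functors
  haveI : DCoh.HasLpull (ρ ≫ (fst A B).left) := OX.hasLpull _
  haveI : DCoh.HasLpull p₁ := OX.hasLpull _
  haveI : DCoh.HasLpull f₁ := OX.hasLpull _
  haveI : DCoh.HasLpull τ := OX.hasLpull _
  haveI : DCoh.HasLpull (τ ≫ f₁) := OX.hasLpull _
  haveI : DCoh.HasLpull n := OX.hasLpull _
  haveI : DCoh.HasLpull μ[A].left := OX.hasLpull _
  haveI : DCoh.HasLpull A.hom := OX.hasLpull _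
  haveI : DCoh.HasLpull Δ := OX.hasLpull _
  haveI : DCoh.HasLpull (Δ ≫ f₁) := OX.hasLpull _
  haveI : DCoh.HasRpush π := KInj.hasRightDerivedFunctor _
  haveI : DCoh.HasRpush τ := KInj.hasRightDerivedFunctor _
  haveI : DCoh.HasRpush f₂ := KInj.hasRightDerivedFunctor _
  haveI : DCoh.HasRpush n := KInj.hasRightDerivedFunctor _
  haveI : DCoh.HasRpush μ[A].left := KInj.hasRightDerivedFunctor _
  haveI : DCoh.HasRpush A.hom := KInj.hasRightDerivedFunctor _
  haveI : DCoh.HasRpush Δ := KInj.hasRightDerivedFunctor _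
  haveI : DCoh.HasRpush (π ≫ qA) := KInj.hasRightDerivedFunctor _
  haveI : DCoh.HasRpush (τ ≫ f₂) := KInj.hasRightDerivedFunctor _
  haveI : DCoh.HasRpush (Δ ≫ f₂) := KInj.hasRightDerivedFunctor _
  haveI : DCoh.HasRpush (𝟙 A.left) := KInj.hasRightDerivedFunctor _
  haveI : DCoh.HasLTensorMod M1 := OX.hasLTensorMod M1
  haveI : DCoh.HasLTensorMod M2 := OX.hasLTensorMod M2
  haveI : DCoh.HasLTensorMod N := OX.hasLTensorMod N
  obtain ⟨_, _, _⟩ := FMTrans15.exact_tF' hM1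
  obtain ⟨_, _, _⟩ := FMTrans15.exact_tF' hM2
  obtain ⟨_, _, _⟩ := FMTrans15.exact_tF' hM'.1
  obtain ⟨_, _, _⟩ := FMTrans15.exact_tF' hN
  obtain ⟨_, _, _⟩ := FMTrans15.exact_tF' hOA
  -- the first base change and the product kernel
  obtain ⟨b1⟩ := nonempty_bc_kernel (FMBC15.isPullback_whiskerLeft A (fst B A)) (fst A B).left (Or.inr ‹Flat qB›) hM
    (Iso.refl M1)
  obtain ⟨t1⟩ := FMTrans15.nonempty_ltensor_iso M1
  obtain ⟨t2⟩ := FMTrans15.nonempty_ltensor_iso M2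
  obtain ⟨t'⟩ := FMTrans15.nonempty_ltensor_iso M'
  obtain ⟨tN⟩ := FMTrans15.nonempty_ltensor_iso N
  obtain ⟨pf⟩ := nonempty_rpush_twist π M' hM'.1
  obtain ⟨cπ⟩ := nonempty_rpush_comp π qA
  obtain ⟨cτ⟩ := nonempty_rpush_comp τ f₂
  obtain ⟨cΔ⟩ := nonempty_rpush_comp Δ f₂
  have hρ : ρ ≫ (fst A B).left = τ ≫ f₁ := by
    show (A ◁ fst B A).left ≫ (fst A B).left = (A ◁ snd B A).left ≫ (fst A A).left
    rw [← Over.comp_left, ← Over.comp_left, whiskerLeft_fst, whiskerLeft_fst]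
  have hr : π ≫ qA = τ ≫ f₂ := by
    show (snd A (B ⊗ A)).left ≫ (snd B A).left = (A ◁ snd B A).left ≫ (snd A A).left
    rw [← Over.comp_left, ← Over.comp_left, whiskerLeft_snd]
  let kk : DCoh.LTensorMod M1 ⋙ DCoh.Rpush π ⋙ DCoh.LTensorMod M' ⋙ DCoh.Rpush qA ≅
      DCoh.LTensorMod N ⋙ DCoh.Rpush τ ⋙ DCoh.Rpush f₂ :=
    Functor.isoWhiskerLeft _ ((Functor.associator _ _ _).symm ≪≫
      Functor.isoWhiskerRight (Functor.isoWhiskerLeft _ t' ≪≫ pf.symm ≪≫ Functor.isoWhiskerRight t2.symm _) _ ≪≫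
      Functor.associator _ _ _ ≪≫ Functor.isoWhiskerLeft _ (cπ ≪≫ rpushCongr hr ≪≫ cτ.symm)) ≪≫
    (Functor.associator _ _ _).symm ≪≫
    Functor.isoWhiskerRight (Functor.isoWhiskerRight t1 _ ≪≫ Functor.isoWhiskerLeft _ t2 ≪≫
      DerCat.mapDerivedCompIso _ _ (Euler.tF N) (FMTrans15.tFComp m) ≪≫ tN.symm) _
  let lp : DCoh.Lpull (ρ ≫ (fst A B).left) ≅ DCoh.Lpull f₁ ⋙ DCoh.Lpull τ :=
    lpullCongr hρ ≪≫ (OX.lpullCompIso τ f₁).symm
  -- the direct image of the product kernel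
  let E := (DCoh.inD (Spec (CommRingCat.of k)) Ok)⟦-(g : ℤ)⟧
  have hE : DCoh.IsQCohD E := isQCohD_inD_shift Ok WeakAss.isQuasicoherent_structureModule _
  obtain ⟨bn⟩ := nonempty_bc (isPullback_sumMap (A := A) (B := B)) (Or.inr ‹Flat (fst A B).left›)
  obtain ⟨bΔ⟩ := nonempty_bc (isPullback_antiDiag (A := A)) (Or.inl ‹Flat μ[A].left›)
  obtain ⟨uA⟩ := nonempty_lpull_unit_shift A.hom (-(g : ℤ))
  haveI : Flat n := MorphismProperty.of_isPullback (P := @Flat) (isPullback_sumMap (A := A) (B := B)).flip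
    ‹Flat μ[A].left›
  obtain ⟨_, _, _⟩ := FMTrans15.exact_pullback n
  obtain ⟨ln⟩ := DualRing.nonempty_lpull_flat n
  let F₁ := (HomologicalComplex.single X3.Modules (ComplexShape.up ℤ) 0).obj N
  let F₂ := ((HomologicalComplex.single A.left.Modules (ComplexShape.up ℤ) 0).obj OA)⟦-(g : ℤ)⟧
  let eB : (DCoh.Rpush τ).obj (DerivedCategory.Q.obj F₁) ≅ (DCoh.Rpush Δ).obj (DerivedCategory.Q.obj F₂) :=
    (DCoh.Rpush τ).mapIso (singleQIso N ≪≫ (ln.app (DCoh.inD _ M) ≪≫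
      ((Scheme.Modules.pullback n).mapDerivedCategorySingleFunctor 0).app M).symm) ≪≫
    (bn.app ⟨_, isQCohD_inD M (InvExt.isQuasicoherent_of_isInvertible hM)⟩).symm ≪≫
    (DCoh.Lpull μ[A].left).mapIso esky ≪≫ bΔ.app ⟨E, hE⟩ ≪≫ (DCoh.Rpush Δ).mapIso (uA ≪≫ (cxQIso OA _).symm)
  let B₀ := DerivedCategory.Q.objPreimage ((DCoh.Rpush τ).obj (DerivedCategory.Q.obj F₁))
  let eB₀ : DerivedCategory.Q.obj B₀ ≅ (DCoh.Rpush τ).obj (DerivedCategory.Q.obj F₁) :=
    DerivedCategory.Q.objObjPreimageIso _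
  haveI := OX.hasLTensorCx F₁
  haveI := OX.hasLTensorCx F₂
  haveI := OX.hasLTensorCx B₀
  have hq1 : DCoh.IsQCohD (DerivedCategory.Q.obj F₁) := KSix19.BettiExact.isQCohD_of_iso' (singleQIso N).symm
    (isQCohD_inD N (InvExt.isQuasicoherent_of_isInvertible hN))
  have hq2 : DCoh.IsQCohD (DerivedCategory.Q.obj F₂) := KSix19.BettiExact.isQCohD_of_iso' (cxQIso OA _).symm
    (isQCohD_inD_shift OA (InvExt.isQuasicoherent_of_isInvertible hOA) _)
  obtain ⟨P1⟩ := nonempty_proj τ F₁ hq1 B₀ eB₀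
  obtain ⟨P2⟩ := nonempty_proj Δ F₂ hq2 B₀ (eB₀ ≪≫ eB)
  obtain ⟨s1⟩ := nonempty_ltensorCx_single hN
  obtain ⟨s2⟩ := nonempty_ltensorCx_shift_single hOA (-(g : ℤ))
  let s2' : DCoh.LTensorCx F₂ ≅ shiftFunctor (DCoh.D A.left) (-(g : ℤ)) :=
    s2 ≪≫ Functor.isoWhiskerRight (FMTrans15.mapDerivedNatIso FMTrans15.tFId ≪≫ OX.mapDerivedIdIso) _ ≪≫
      Functor.leftUnitor _
  let PP := Functor.isoWhiskerLeft _ (Functor.isoWhiskerLeft _ (Functor.isoWhiskerRight (tN ≪≫ s1.symm) _)) ≪≫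
    P1.symm ≪≫ P2 ≪≫ Functor.isoWhiskerLeft _ (Functor.isoWhiskerLeft _ (Functor.isoWhiskerRight s2' _))
  -- the final composites
  have hΔ1 : Δ ≫ f₁ = ((𝟙 A)⁻¹).left := by
    show (antiDiag (A := A)).left ≫ (fst A A).left = _
    rw [← Over.comp_left, antiDiag, lift_fst]
  have hΔ2 : Δ ≫ f₂ = 𝟙 A.left := by
    show (antiDiag (A := A)).left ≫ (snd A A).left = _
    rw [← Over.comp_left, antiDiag, lift_snd, Over.id_left]
  obtain ⟨i⟩ := nonempty_rpush_id A.left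
  let qc : ObjectProperty (DCoh.D A.left) := DCoh.IsQCohD
  let K := (DCoh.IsQCohD (X := (A ⊗ A).left)).lift (qc.ι ⋙ DCoh.Lpull f₁)
    fun G => SuppTens22.isQCohD_lpull f₁ G.property
  let w : K ⋙ ObjectProperty.ι (DCoh.IsQCohD (X := (A ⊗ A).left)) ≅ qc.ι ⋙ DCoh.Lpull f₁ :=
    (DCoh.IsQCohD (X := (A ⊗ A).left)).liftCompιIso (qc.ι ⋙ DCoh.Lpull f₁)
      fun G => SuppTens22.isQCohD_lpull f₁ G.property
  let Sh := shiftFunctor (DCoh.D A.left) (-(g : ℤ))
  let LM := DCoh.LTensorMod M'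
  let J := ObjectProperty.ι (DCoh.IsQCohD (X := (A ⊗ A).left))
  let Φ := DCoh.Lpull (fst A B).left ⋙ DCoh.LTensorMod M ⋙ DCoh.Rpush qB
  let Ψ := DCoh.Lpull (fst B A).left ⋙ LM ⋙ DCoh.Rpush qA
  let c1 : qc.ι ⋙ Φ ⋙ Ψ ≅ (qc.ι ⋙ Φ ⋙ DCoh.Lpull (fst B A).left) ⋙ LM ⋙ DCoh.Rpush qA := Iso.refl _
  let c2 : (qc.ι ⋙ (DCoh.Lpull (ρ ≫ (fst A B).left) ⋙ DCoh.LTensorMod M1) ⋙ DCoh.Rpush π) ⋙ LM ⋙ DCoh.Rpush qA ≅
      (qc.ι ⋙ DCoh.Lpull (ρ ≫ (fst A B).left)) ⋙
        (DCoh.LTensorMod M1 ⋙ DCoh.Rpush π ⋙ LM ⋙ DCoh.Rpush qA) := Iso.refl _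
  let c3 : (qc.ι ⋙ DCoh.Lpull f₁ ⋙ DCoh.Lpull τ) ⋙ (DCoh.LTensorMod N ⋙ DCoh.Rpush τ ⋙ DCoh.Rpush f₂) ≅
      (qc.ι ⋙ DCoh.Lpull f₁) ⋙ (DCoh.Lpull τ ⋙ DCoh.LTensorMod N ⋙ DCoh.Rpush τ) ⋙ DCoh.Rpush f₂ := Iso.refl _
  let c4 : (K ⋙ J) ⋙ (DCoh.Lpull τ ⋙ DCoh.LTensorMod N ⋙ DCoh.Rpush τ) ⋙ DCoh.Rpush f₂ ≅
      K ⋙ (J ⋙ DCoh.Lpull τ ⋙ DCoh.LTensorMod N ⋙ DCoh.Rpush τ) ⋙ DCoh.Rpush f₂ := Iso.refl _
  let c5 : K ⋙ (J ⋙ DCoh.Lpull Δ ⋙ Sh ⋙ DCoh.Rpush Δ) ⋙ DCoh.Rpush f₂ ≅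
      (K ⋙ J) ⋙ (DCoh.Lpull Δ ⋙ Sh ⋙ DCoh.Rpush Δ ⋙ DCoh.Rpush f₂) := Iso.refl _
  let c6 : (qc.ι ⋙ DCoh.Lpull f₁) ⋙ (DCoh.Lpull Δ ⋙ Sh ⋙ 𝟭 _) ≅
      qc.ι ⋙ (DCoh.Lpull f₁ ⋙ DCoh.Lpull Δ) ⋙ Sh := Iso.refl _
  exact ⟨c1 ≪≫ Functor.isoWhiskerRight b1 _ ≪≫ c2 ≪≫ Functor.isoWhiskerRight (Functor.isoWhiskerLeft _ lp) _ ≪≫
    Functor.isoWhiskerLeft _ kk ≪≫ c3 ≪≫ Functor.isoWhiskerRight w.symm _ ≪≫ c4 ≪≫
    Functor.isoWhiskerLeft K (Functor.isoWhiskerRight PP _) ≪≫ c5 ≪≫ Functor.isoWhiskerRight w _ ≪≫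
    Functor.isoWhiskerLeft _ (Functor.isoWhiskerLeft _ (Functor.isoWhiskerLeft _
      (cΔ ≪≫ rpushCongr hΔ2 ≪≫ i))) ≪≫ c6 ≪≫
    Functor.isoWhiskerLeft _ (Functor.isoWhiskerRight (OX.lpullCompIso Δ f₁ ≪≫ lpullCongr hΔ1) _)⟩

end

end GrothLib.FMInv15
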