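import Groth.Agent.Lib.FMInv15.Skyscraper
import Groth.Agent.Lib.FMInv15.Inversion
import Groth.Agent.Lib.RpushSupp20.Main
import Groth.Agent.Lib.KSix19.ProjPush.Closed

/-!
# The direct images of a Poincaré bundle as objects of the derived category
-/

set_option autoImplicit false
set_option linter.all false
set_option backward.isDefEq.respectTransparency false
set_option maxHeartbeats 2000000

universe u

open CategoryTheory CategoryTheory.Limits AlgebraicGeometry
open MonoidalCategory CartesianMonoidalCategory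
open GrothLib.Cube
open scoped MonObj

attribute [local instance] HasDerivedCategory.standard

noncomputable section

namespace GrothLib.FMInv15

/-- A direct image concentrated in one degree, as an object of the derived category. -/
theorem nonempty_rpush_concentrated {X Y Z : Scheme.{u}} (f : X ⟶ Y) (i : Z ⟶ Y) [IsClosedImmersion i]
    [HasInjectiveResolutions X.Modules] [DCoh.HasRpush f] [DCoh.HasRpush i] (P : X.Modules) (N : Z.Modules) (g : ℕ)
    (hz : ∀ q : ℕ, q ≠ g → IsZero ((Coh.Rpush f q).obj P))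
    (hg : Nonempty ((Coh.Rpush f g).obj P ≅ (Coh.push i).obj N)) :
    Nonempty ((DCoh.Rpush f).obj (DCoh.inD X P) ≅ (DCoh.Rpush i).obj ((DCoh.inD Z N)⟦-(g : ℤ)⟧)) := by
  obtain ⟨eg⟩ := hg
  let D := (SiteDer.Rres (OX.rmor f)).obj (DCoh.inD X P)
  have hD : ∀ q : ℕ, Nonempty ((DerivedCategory.homologyFunctor Y.Modules (q : ℤ)).obj D ≅ (Coh.Rpush f q).obj P) :=
    fun q => SiteDer.nonempty_homology_Rres_single (OX.rmor f) P q
  have hzero : ∀ i : ℤ, i ≠ g → IsZero ((DerivedCategory.homologyFunctor Y.Modules i).obj D) := fun j hj => by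
    by_cases h0 : 0 ≤ j
    · obtain ⟨q, rfl⟩ := Int.eq_ofNat_of_zero_le h0
      exact (hz q (by omega)).of_iso (hD q).some
    · haveI : DerivedCategory.IsGE (DCoh.inD X P) 0 := inferInstance
      haveI : D.IsGE 0 := SiteDer.isGE_Rres (OX.rmor f) (DCoh.inD X P) 0
      exact DerivedCategory.isZero_of_isGE D 0 j (by omega)
  haveI : D.IsGE (g : ℤ) := (DerivedCategory.isGE_iff _ _).2 fun i hi => hzero i (by omega)
  haveI : D.IsLE (g : ℤ) := (DerivedCategory.isLE_iff _ _).2 fun i hi => hzero i (by omega)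
  obtain ⟨M, ⟨eM⟩⟩ := DerivedCategory.exists_iso_singleFunctor_obj_of_isGE_of_isLE D (g : ℤ)
  let eN : M ≅ (Coh.push i).obj N :=
    ((DerivedCategory.singleFunctorCompHomologyFunctorIso Y.Modules (g : ℤ)).app M).symm ≪≫
      (DerivedCategory.homologyFunctor Y.Modules (g : ℤ)).mapIso eM.symm ≪≫ (hD g).some ≪≫ eg
  let eS : DCoh.inD Y ((Coh.push i).obj N) ≅ (SiteDer.Rres (OX.rmor i)).obj (DCoh.inD Z N) :=
    ((KSix19.ProjPush.rresPushDIso i (DCoh.inD Z N)) ≪≫
      ((Scheme.Modules.pushforward i).mapDerivedCategorySingleFunctor 0).app N).symm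
  exact ⟨(OX.rpushIsoRres f).app _ ≪≫ eM ≪≫ (DerivedCategory.singleFunctor Y.Modules (g : ℤ)).mapIso eN ≪≫
    (((DerivedCategory.singleFunctors Y.Modules).shiftIso (-(g : ℤ)) g 0 (by omega)).app _).symm ≪≫
    (shiftFunctor (DCoh.D Y) (-(g : ℤ))).mapIso eS ≪≫
    (((SiteDer.Rres (OX.rmor i)).commShiftIso (-(g : ℤ))).app _).symm ≪≫ ((OX.rpushIsoRres i).app _).symm⟩

variable {k : Type u} [Field k] {A At : Over (Spec (CommRingCat.of k))} [GrpObj A] [IsProper A.hom]
  [Smooth A.hom] [GeometricallyConnected A.hom] [GrpObj At] [IsProper At.hom] [Smooth At.hom]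
  [GeometricallyConnected At.hom]
  {φ : ∀ T : Over (Spec (CommRingCat.of k)), PicF.Cl (PicF.XT A.hom T) → (T ⟶ At)}
  (hφ : AbDual.IsDualAV Scheme.fppfPrecoverage A At φ) {g : ℕ} (hg : topologicalKrullDim A.left = g)
  {P : (A ⊗ At).left.Modules} {x : Pic (A ⊗ At).left} (hP : HasCls P x)
  (hξ : AbDual.IsPoincareCl A At φ (PicF.cl P))

include hφ hg hP hξ

/-- `R p_{1*}` of the Poincaré bundle. -/
theorem nonempty_sky_fst [DCoh.HasRpush (fst A At).left] [DCoh.HasRpush η[A].left] :
    Nonempty ((DCoh.Rpush (fst A At).left).obj (DCoh.inD (A ⊗ At).left P) ≅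
      (DCoh.Rpush η[A].left).obj
        ((DCoh.inD (Spec (CommRingCat.of k)) (Coh.structureModule (Spec (CommRingCat.of k))))⟦-(g : ℤ)⟧)) := by
  haveI := Dual.geometricallyIntegral_of_abScheme A
  haveI := Dual.geometricallyIntegral_of_abScheme At
  haveI := RpushSupp20.hasInjectiveResolutions (A ⊗ At).left
  haveI := RpushSupp20.hasInjectiveResolutions (At ⊗ A).left
  obtain ⟨h1, ⟨h2⟩⟩ := exists_fst hφ hg hP hξ
  let sw := (Bidual.swap At A).left
  let swA := (Bidual.swap A At).left
  have hid : swA ≫ sw = 𝟙 _ := by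
    rw [← Over.comp_left, ← Over.id_left]; congr 1
    apply CartesianMonoidalCategory.hom_ext <;> simp [Bidual.swap]
  haveI : IsIso swA := ⟨sw, hid, by
    rw [← Over.comp_left, ← Over.id_left]; congr 1
    apply CartesianMonoidalCategory.hom_ext <;> simp [Bidual.swap]⟩
  let P' := (Scheme.Modules.pullback sw).obj P
  haveI : P.IsQuasicoherent := InvExt.isQuasicoherent_of_isInvertible hP.1
  haveI : P'.IsQuasicoherent := InvExt.isQuasicoherent_of_isInvertible (hP.pullback sw).1
  haveI : IsIso ((Scheme.Modules.pullbackPushforwardAdjunction swA).unit.app P') :=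
    QCoh.isIso_unit_of_killed swA P' fun U a ha m => by
      rw [Scheme.Hom.ker_eq_bot_of_isIso] at ha
      rw [show a = 0 by simpa using ha, zero_smul]
  obtain ⟨eP⟩ := ((hP.pullback sw).pullback swA).iso hP (by rw [pull_comp, hid]; exact Cube.pull_id x)
  let eQ : P' ≅ (Scheme.Modules.pushforward swA).obj P :=
    asIso ((Scheme.Modules.pullbackPushforwardAdjunction swA).unit.app P') ≪≫
      (Scheme.Modules.pushforward swA).mapIso eP
  have hc : swA ≫ (snd At A).left = (fst A At).left := by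
    rw [← Over.comp_left, Bidual.swap, lift_snd]
  have hR : ∀ q : ℕ, Nonempty ((Coh.Rpush (snd At A).left q).obj P' ≅ (Coh.Rpush (fst A At).left q).obj P) := fun q => by
    obtain ⟨e⟩ := Cohom.nonempty_Rpush_pushforward_iso swA (snd At A).left P q
    exact ⟨(Coh.Rpush (snd At A).left q).mapIso eQ ≪≫ e ≪≫ eqToIso (by rw [hc])⟩
  haveI : IsClosedImmersion η[A].left := isClosedImmersion_of_comp_eq_id A.hom η[A].left (Over.w η[A])
  haveI : DCoh.HasRpush (X := Spec (CommRingCat.of k)) η[A].left := ‹DCoh.HasRpush η[A].left›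
  exact nonempty_rpush_concentrated (Z := Spec (CommRingCat.of k)) (fst A At).left η[A].left P _ g
    (fun q hq => (h1 q hq).of_iso (hR q).some.symm) ⟨(hR g).some.symm ≪≫ h2⟩

/-- `R p_{1*}` of the transposed Poincaré bundle. -/
theorem nonempty_sky_fst_swap [DCoh.HasRpush (fst At A).left] [DCoh.HasRpush η[At].left] :
    Nonempty ((DCoh.Rpush (fst At A).left).obj
        (DCoh.inD (At ⊗ A).left ((Scheme.Modules.pullback (Bidual.swap At A).left).obj P)) ≅
      (DCoh.Rpush η[At].left).obj
        ((DCoh.inD (Spec (CommRingCat.of k)) (Coh.structureModule (Spec (CommRingCat.of k))))⟦-(g : ℤ)⟧)) := by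
  haveI := Dual.geometricallyIntegral_of_abScheme A
  haveI := Dual.geometricallyIntegral_of_abScheme At
  haveI := RpushSupp20.hasInjectiveResolutions (A ⊗ At).left
  haveI := RpushSupp20.hasInjectiveResolutions (At ⊗ A).left
  obtain ⟨h1, ⟨h2⟩, -⟩ := Skyscraper.exists_main hφ hg hP hξ
  let sw := (Bidual.swap At A).left
  haveI : IsIso sw := ⟨(Bidual.swap A At).left, by
    constructor <;> rw [← Over.comp_left, ← Over.id_left] <;> congr 1 <;>
      apply CartesianMonoidalCategory.hom_ext <;> simp [Bidual.swap]⟩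
  let P' := (Scheme.Modules.pullback sw).obj P
  haveI : P.IsQuasicoherent := InvExt.isQuasicoherent_of_isInvertible hP.1
  haveI : P'.IsQuasicoherent := InvExt.isQuasicoherent_of_isInvertible (hP.pullback sw).1
  haveI : IsIso ((Scheme.Modules.pullbackPushforwardAdjunction sw).unit.app P) :=
    QCoh.isIso_unit_of_killed sw P fun U a ha m => by
      rw [Scheme.Hom.ker_eq_bot_of_isIso] at ha
      rw [show a = 0 by simpa using ha, zero_smul]
  let eQ : P ≅ (Scheme.Modules.pushforward sw).obj P' :=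
    asIso ((Scheme.Modules.pullbackPushforwardAdjunction sw).unit.app P)
  have hc : sw ≫ (snd A At).left = (fst At A).left := by
    rw [← Over.comp_left, Bidual.swap, lift_snd]
  have hR : ∀ q : ℕ, Nonempty ((Coh.Rpush (snd A At).left q).obj P ≅ (Coh.Rpush (fst At A).left q).obj P') := fun q => by
    obtain ⟨e⟩ := Cohom.nonempty_Rpush_pushforward_iso sw (snd A At).left P' q
    exact ⟨(Coh.Rpush (snd A At).left q).mapIso eQ ≪≫ e ≪≫ eqToIso (by rw [hc])⟩
  haveI : IsClosedImmersion η[At].left := isClosedImmersion_of_comp_eq_id At.hom η[At].left (Over.w η[At])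
  haveI : DCoh.HasRpush (X := Spec (CommRingCat.of k)) η[At].left := ‹DCoh.HasRpush η[At].left›
  exact nonempty_rpush_concentrated (Z := Spec (CommRingCat.of k)) (fst At A).left η[At].left P' _ g
    (fun q hq => (h1 q hq).of_iso (hR q).some.symm) ⟨(hR g).some.symm ≪≫ h2⟩

end GrothLib.FMInv15
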