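import Groth.Agent.Lib.FMInv15.Derived

/-!
# Mukai inversion and the equivalence of derived categories
-/

set_option autoImplicit false
set_option linter.all false
set_option backward.isDefEq.respectTransparency false
set_option maxHeartbeats 2000000

universe u

open CategoryTheory CategoryTheory.Limits AlgebraicGeometry
open MonoidalCategory CartesianMonoidalCategory
open GrothLib.Cube
open scoped MonObj

attribute [local instance] HasDerivedCategory.standard

noncomputable section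

namespace GrothLib.FMInv15

open GrothLib.FMBC15

section

variable {k : Type u} [Field k] {A At : Over (Spec (CommRingCat.of k))} [GrpObj A] [IsProper A.hom]
  [Smooth A.hom] [GeometricallyConnected A.hom] [GrpObj At] [IsProper At.hom] [Smooth At.hom]
  [GeometricallyConnected At.hom]
  {φ : ∀ T : Over (Spec (CommRingCat.of k)), PicF.Cl (PicF.XT A.hom T) → (T ⟶ At)}
  (hφ : AbDual.IsDualAV Scheme.fppfPrecoverage A At φ) {g : ℕ} (hg : topologicalKrullDim A.left = g)
  {P : (A ⊗ At).left.Modules} (hP : PicF.IsInvertible P) (hξ : AbDual.IsPoincareCl A At φ (PicF.cl P))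
  {P' : (At ⊗ A).left.Modules}
  (hP' : HasCls P' (pull (Bidual.swap At A).left (clsMod hP)))
  [DCoh.HasLpull (fst A At).left] [DCoh.HasLTensorMod P] [DCoh.HasRpush (snd A At).left]
  [DCoh.HasLpull (fst At A).left] [DCoh.HasLTensorMod P'] [DCoh.HasRpush (snd At A).left]

include hφ hg hξ hP'

/-- **Mukai's inversion formula.** -/
theorem nonempty_inversion [DCoh.HasLpull ((𝟙 A)⁻¹).left] :
    Nonempty (ObjectProperty.ι (DCoh.IsQCohD (X := A.left)) ⋙
        (DCoh.Lpull (fst A At).left ⋙ DCoh.LTensorMod P ⋙ DCoh.Rpush (snd A At).left) ⋙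
        (DCoh.Lpull (fst At A).left ⋙ DCoh.LTensorMod P' ⋙ DCoh.Rpush (snd At A).left) ≅
      ObjectProperty.ι (DCoh.IsQCohD (X := A.left)) ⋙ DCoh.Lpull ((𝟙 A)⁻¹).left ⋙
        shiftFunctor (DCoh.D A.left) (-(g : ℤ))) := by
  haveI := Dual.geometricallyIntegral_of_abScheme A
  haveI := Dual.geometricallyIntegral_of_abScheme At
  haveI : DCoh.HasRpush (fst A At).left := KInj.hasRightDerivedFunctor _
  haveI : DCoh.HasRpush η[A].left := KInj.hasRightDerivedFunctor _
  have hc := hasCls_clsMod (X := (A ⊗ At).left) hP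
  have hu := PolSym15.isUniv_of_isPoincareCl hc hξ
  exact nonempty_comp hP hP' (fun f f' b => PolSym15.pair_mul_left hu f f' b) g (nonempty_sky_fst hφ hg hc hξ)

/-- The inversion formula in the other order. -/
theorem nonempty_inversion_dual [DCoh.HasLpull ((𝟙 At)⁻¹).left] :
    Nonempty (ObjectProperty.ι (DCoh.IsQCohD (X := At.left)) ⋙
        (DCoh.Lpull (fst At A).left ⋙ DCoh.LTensorMod P' ⋙ DCoh.Rpush (snd At A).left) ⋙
        (DCoh.Lpull (fst A At).left ⋙ DCoh.LTensorMod P ⋙ DCoh.Rpush (snd A At).left) ≅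
      ObjectProperty.ι (DCoh.IsQCohD (X := At.left)) ⋙ DCoh.Lpull ((𝟙 At)⁻¹).left ⋙
        shiftFunctor (DCoh.D At.left) (-(g : ℤ))) := by
  haveI := Dual.geometricallyIntegral_of_abScheme A
  haveI := Dual.geometricallyIntegral_of_abScheme At
  haveI : DCoh.HasRpush (fst At A).left := KInj.hasRightDerivedFunctor _
  haveI : DCoh.HasRpush η[At].left := KInj.hasRightDerivedFunctor _
  have hc := hasCls_clsMod (X := (A ⊗ At).left) hP
  have hu := PolSym15.isUniv_of_isPoincareCl hc hξ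
  obtain ⟨hP'i, hP'c⟩ := id hP'
  have hpair : ∀ {T : Over (Spec (CommRingCat.of k))} (f : T ⟶ At) (b : T ⟶ A),
      PolSym15.pair (clsMod hP'i) f b = PolSym15.pair (clsMod hP) b f := fun f b => by
    rw [hP'c, PolSym15.pair, CubeRel26.pull_pull_over, Bidual.swap, comp_lift, lift_fst, lift_snd]
    rfl
  have hPc : HasCls P (PolSym15.pair (clsMod hP'i) (snd A At) (fst A At)) := by
    have e : PolSym15.pair (clsMod hP'i) (snd A At) (fst A At) = clsMod hP := by
      rw [hpair, PolSym15.pair, lift_fst_snd, Over.id_left]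
      exact Cube.pull_id _
    rw [e]; exact hc
  obtain ⟨e⟩ := nonempty_sky_fst_swap hφ hg hc hξ
  obtain ⟨i⟩ := hP'.iso (hc.pullback (Bidual.swap At A).left) rfl
  exact nonempty_comp hP'i hPc (fun f f' b => by
      rw [hpair, hpair, hpair]; exact PolSym15.pair_mul_right hu hφ b f f') g
    ⟨(DCoh.Rpush (fst At A).left).mapIso ((DerivedCategory.singleFunctor _ 0).mapIso i) ≪≫ e⟩

end

section

variable {X Y : Scheme.{u}}

/-- Derived direct images of quasi-coherent complexes. -/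
theorem isQCohD_rpush (f : X ⟶ Y) [QuasiCompact f] [QuasiSeparated f] [DCoh.HasRpush f] [CompactSpace X]
    {M : DCoh.D X} (hM : DCoh.IsQCohD M) : DCoh.IsQCohD ((DCoh.Rpush f).obj M) :=
  fun i => OX.isQCoh_of_iso ((DerivedCategory.homologyFunctor _ i).mapIso
    ((OX.rpushIsoRres f).app M).symm) (OX.isQCohD_Rres f M hM i)

/-- Inverse up to autoequivalences is enough. -/
theorem isEquivalence_of_comp {C D : Type*} [Category C] [Category D] (L : C ⥤ D) (R : D ⥤ C)
    (h₁ : (L ⋙ R).IsEquivalence) (h₂ : (R ⋙ L).IsEquivalence) : L.IsEquivalence := by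
  haveI := h₁
  haveI := h₂
  haveI : L.Faithful := Functor.Faithful.of_comp L R
  haveI : R.Faithful := Functor.Faithful.of_comp R L
  haveI : L.Full := ⟨fun {a b} f => by
    obtain ⟨f', hf'⟩ := (L ⋙ R).map_surjective (R.map f)
    exact ⟨f', R.map_injective hf'⟩⟩
  haveI : L.EssSurj := ⟨fun d => ⟨R.obj ((R ⋙ L).objPreimage d), ⟨(R ⋙ L).objObjPreimageIso d⟩⟩⟩
  exact { }

variable {k : Type u} [Field k] {A : Over (Spec (CommRingCat.of k))} [GrpObj A]

/-- Inversion followed by a shift is an autoequivalence of the quasi-coherent complexes. -/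
theorem isEquivalence_inv_shift (n : ℤ) [DCoh.HasLpull ((𝟙 A)⁻¹).left]
    (h : ∀ M : DCoh.D A.left, DCoh.IsQCohD M →
      DCoh.IsQCohD ((DCoh.Lpull ((𝟙 A)⁻¹).left ⋙ shiftFunctor (DCoh.D A.left) n).obj M)) :
    (ObjectProperty.lift (DCoh.IsQCohD (X := A.left))
      (ObjectProperty.ι (DCoh.IsQCohD (X := A.left)) ⋙ DCoh.Lpull ((𝟙 A)⁻¹).left ⋙
        shiftFunctor (DCoh.D A.left) n) (fun M => h M.obj M.property)).IsEquivalence := by
  let v := ((𝟙 A)⁻¹).left
  let qc : ObjectProperty (DCoh.D A.left) := DCoh.IsQCohD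
  have hinv : v ≫ v = 𝟙 A.left := by
    show ((𝟙 A)⁻¹).left ≫ ((𝟙 A)⁻¹).left = _
    rw [← Over.comp_left, GrpObj.comp_inv, Category.comp_id, inv_inv, Over.id_left]
  haveI : DCoh.HasLpull (v ≫ v) := OX.hasLpull _
  haveI : DCoh.HasLpull (𝟙 A.left) := OX.hasLpull _
  obtain ⟨i⟩ := nonempty_lpull_id A.left
  let L : qc.FullSubcategory ⥤ qc.FullSubcategory :=
    qc.lift (qc.ι ⋙ DCoh.Lpull v) fun M => SuppTens22.isQCohD_lpull v M.property
  let Sh : ℤ → (qc.FullSubcategory ⥤ qc.FullSubcategory) := fun m =>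
    qc.lift (qc.ι ⋙ shiftFunctor (DCoh.D A.left) m) fun M => OX.isQCohD_shift M.property m
  let eL : L ⋙ L ≅ 𝟭 _ := Functor.fullyFaithfulCancelRight qc.ι
    (Functor.isoWhiskerLeft qc.ι (OX.lpullCompIso v v ≪≫ lpullCongr hinv ≪≫ i))
  haveI : L.IsEquivalence := by
    haveI : (L ⋙ L).IsEquivalence := Functor.isEquivalence_of_iso eL.symm
    exact isEquivalence_of_comp L L ‹_› ‹_›
  haveI : (Sh n).IsEquivalence := by
    refine isEquivalence_of_comp (Sh n) (Sh (-n)) ?_ ?_
    · exact Functor.isEquivalence_of_iso (Functor.fullyFaithfulCancelRight qc.ι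
        (Functor.isoWhiskerLeft qc.ι (shiftFunctorCompIsoId (DCoh.D A.left) n (-n) (add_neg_cancel n))) :
          Sh n ⋙ Sh (-n) ≅ 𝟭 _).symm
    · exact Functor.isEquivalence_of_iso (Functor.fullyFaithfulCancelRight qc.ι
        (Functor.isoWhiskerLeft qc.ι (shiftFunctorCompIsoId (DCoh.D A.left) (-n) n (neg_add_cancel n))) :
          Sh (-n) ⋙ Sh n ≅ 𝟭 _).symm
  exact Functor.isEquivalence_of_iso (Functor.fullyFaithfulCancelRight qc.ι (Iso.refl _) : L ⋙ Sh n ≅ _)

end

section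

variable {k : Type u} [Field k] {A At : Over (Spec (CommRingCat.of k))} [GrpObj A] [IsProper A.hom]
  [Smooth A.hom] [GeometricallyConnected A.hom] [GrpObj At] [IsProper At.hom] [Smooth At.hom]
  [GeometricallyConnected At.hom]
  {φ : ∀ T : Over (Spec (CommRingCat.of k)), PicF.Cl (PicF.XT A.hom T) → (T ⟶ At)}
  (hφ : AbDual.IsDualAV Scheme.fppfPrecoverage A At φ)
  {P : (A ⊗ At).left.Modules} (hP : PicF.IsInvertible P) (hξ : AbDual.IsPoincareCl A At φ (PicF.cl P))
  [DCoh.HasLpull (fst A At).left] [DCoh.HasLTensorMod P] [DCoh.HasRpush (snd A At).left]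

include hφ hP hξ

/-- **The Poincaré transform is an equivalence on quasi-coherent complexes.** -/
theorem isEquivalence_fourierMukai
    (h : ∀ M : DCoh.D A.left, DCoh.IsQCohD M → DCoh.IsQCohD
      ((DCoh.Lpull (fst A At).left ⋙ DCoh.LTensorMod P ⋙ DCoh.Rpush (snd A At).left).obj M)) :
    (ObjectProperty.lift (DCoh.IsQCohD (X := At.left))
      (ObjectProperty.ι (DCoh.IsQCohD (X := A.left)) ⋙
        (DCoh.Lpull (fst A At).left ⋙ DCoh.LTensorMod P ⋙ DCoh.Rpush (snd A At).left))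
      (fun M => h M.obj M.property)).IsEquivalence := by
  haveI := Dual.geometricallyIntegral_of_abScheme A
  haveI := Dual.geometricallyIntegral_of_abScheme At
  haveI : IsCommMonObj A := isCommMonObj_abVar
  obtain ⟨g, hg⟩ := AbTors.exists_dim A
  let P' := (Scheme.Modules.pullback (Bidual.swap At A).left).obj P
  have hP' : HasCls P' (pull (Bidual.swap At A).left (clsMod hP)) := (hasCls_clsMod hP).pullback _
  haveI : DCoh.HasLpull (fst At A).left := OX.hasLpull _
  haveI : DCoh.HasLTensorMod P' := OX.hasLTensorMod P'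
  haveI : DCoh.HasRpush (snd At A).left := KInj.hasRightDerivedFunctor _
  haveI : DCoh.HasLpull ((𝟙 A)⁻¹).left := OX.hasLpull _
  haveI : DCoh.HasLpull ((𝟙 At)⁻¹).left := OX.hasLpull _
  haveI : CompactSpace A.left := QuasiCompact.compactSpace_of_compactSpace A.hom
  haveI : CompactSpace (At ⊗ A).left :=
    QuasiCompact.compactSpace_of_compactSpace (pullback.snd At.hom A.hom)
  haveI : QuasiCompact (snd At A).left := inferInstanceAs (QuasiCompact (pullback.snd At.hom A.hom))
  haveI : QuasiSeparated (snd At A).left := inferInstanceAs (QuasiSeparated (pullback.snd At.hom A.hom))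
  have h' : ∀ M : DCoh.D At.left, DCoh.IsQCohD M → DCoh.IsQCohD
      ((DCoh.Lpull (fst At A).left ⋙ DCoh.LTensorMod P' ⋙ DCoh.Rpush (snd At A).left).obj M) := fun M hM =>
    isQCohD_rpush (snd At A).left (FMBC15.isQCohD_pull_twist (fst At A).left hP'.1 hM)
  obtain ⟨eA⟩ := nonempty_inversion hφ hg hP hξ hP'
  obtain ⟨eAt⟩ := nonempty_inversion_dual hφ hg hP hξ hP'
  let qA : ObjectProperty (DCoh.D A.left) := DCoh.IsQCohD
  let qB : ObjectProperty (DCoh.D At.left) := DCoh.IsQCohD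
  let L : qA.FullSubcategory ⥤ qB.FullSubcategory :=
    qB.lift (qA.ι ⋙ (DCoh.Lpull (fst A At).left ⋙ DCoh.LTensorMod P ⋙ DCoh.Rpush (snd A At).left))
      fun M => h M.obj M.property
  let R : qB.FullSubcategory ⥤ qA.FullSubcategory :=
    qA.lift (qB.ι ⋙ (DCoh.Lpull (fst At A).left ⋙ DCoh.LTensorMod P' ⋙ DCoh.Rpush (snd At A).left))
      fun M => h' M.obj M.property
  have hA : ∀ M : DCoh.D A.left, DCoh.IsQCohD M →
      DCoh.IsQCohD ((DCoh.Lpull ((𝟙 A)⁻¹).left ⋙ shiftFunctor (DCoh.D A.left) (-(g : ℤ))).obj M) := fun M hM =>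
    OX.isQCohD_shift (SuppTens22.isQCohD_lpull _ hM) _
  have hB : ∀ M : DCoh.D At.left, DCoh.IsQCohD M →
      DCoh.IsQCohD ((DCoh.Lpull ((𝟙 At)⁻¹).left ⋙ shiftFunctor (DCoh.D At.left) (-(g : ℤ))).obj M) := fun M hM =>
    OX.isQCohD_shift (SuppTens22.isQCohD_lpull _ hM) _
  haveI := isEquivalence_inv_shift (-(g : ℤ)) hA
  haveI := isEquivalence_inv_shift (-(g : ℤ)) hB
  let iA : L ⋙ R ≅ qA.lift (qA.ι ⋙ DCoh.Lpull ((𝟙 A)⁻¹).left ⋙ shiftFunctor (DCoh.D A.left) (-(g : ℤ)))
      (fun M => hA M.obj M.property) := Functor.fullyFaithfulCancelRight qA.ι eA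
  let iB : R ⋙ L ≅ qB.lift (qB.ι ⋙ DCoh.Lpull ((𝟙 At)⁻¹).left ⋙ shiftFunctor (DCoh.D At.left) (-(g : ℤ)))
      (fun M => hB M.obj M.property) := Functor.fullyFaithfulCancelRight qB.ι eAt
  exact isEquivalence_of_comp L R (Functor.isEquivalence_of_iso iA.symm) (Functor.isEquivalence_of_iso iB.symm)

end

end GrothLib.FMInv15
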