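import Groth.Agent.Lib.FMInv15.Vanish
import Groth.Agent.Lib.CurveMult.RelNef

/-!
# Both direct images of the Poincaré bundle are skyscrapers
-/

set_option autoImplicit false
set_option linter.all false
set_option backward.isDefEq.respectTransparency false
set_option maxHeartbeats 2000000

universe u

open CategoryTheory CategoryTheory.Limits AlgebraicGeometry Opposite TopologicalSpace
open MonoidalCategory CartesianMonoidalCategory
open GrothLib.Ample GrothLib.Cube GrothLib.Dual
open scoped MonObj

noncomputable section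

namespace GrothLib.FMInv15

variable {k : Type u} [Field k] {A At : Over (Spec (CommRingCat.of k))} [GrpObj A] [IsProper A.hom]
  [GeometricallyIntegral A.hom] [Smooth A.hom] [GrpObj At] [IsProper At.hom] [GeometricallyIntegral At.hom]
  [Smooth At.hom] {φ : ∀ T : Over (Spec (CommRingCat.of k)), PicF.Cl (PicF.XT A.hom T) → (T ⟶ At)}
  (hφ : AbDual.IsDualAV Scheme.fppfPrecoverage A At φ)

include hφ

/-- The transposed Poincaré class is additive in the dual variable. -/
theorem defect_swap {x : Pic (A ⊗ At).left} (hu : PolSym15.IsUniv φ x) :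
    defect (pull (Bidual.swap At A).left x) = 1 := by
  have hp : ∀ h : At ⊗ At ⟶ At, pull (h ▷ A).left (pull (Bidual.swap At A).left x) =
      PolSym15.pair x (snd (At ⊗ At) A) (fst (At ⊗ At) A ≫ h) := fun h => by
    rw [pull_pull_over, Bidual.swap, comp_lift, whiskerRight_fst, whiskerRight_snd]
    rfl
  rw [defect, hp, hp, hp, show μ[At] = fst At At * snd At At by rw [Hom.mul_def, lift_fst_snd, Category.id_comp],
    MonObj.comp_mul, PolSym15.pair_mul_right hu hφ, mul_inv_cancel]

/-- The transposed Poincaré bundle is geometrically nontrivial off a finite set. -/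
theorem exists_finite_bad {x : Pic (A ⊗ At).left} (hu : PolSym15.IsUniv φ x) :
    ∃ S : Set A.left, S.Finite ∧ (∀ s ∈ S, IsClosed ({s} : Set A.left)) ∧
      ∀ y ∉ S, ∀ (Ω : Type u) [Field Ω] [IsAlgClosed Ω] (σ : Spec (CommRingCat.of Ω) ⟶ A.left),
        σ (IsLocalRing.closedPoint Ω) = y →
          pull (At ◁ (Over.homMk σ rfl : Over.mk (σ ≫ A.hom) ⟶ A)).left (pull (Bidual.swap At A).left x) ≠ 1 := by
  obtain ⟨H, hH⟩ := exists_isAmple A
  obtain ⟨hfin, -, -⟩ := DualIsog.isogeny_psi hφ (hasCls_clsMod hH.1) hH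
  let w := clsMod hH.1
  let ψ := MumfordPoincare.psi φ w
  haveI : IsFinite ψ.left := hfin
  let e₁ := η[At].left (IsLocalRing.closedPoint k)
  haveI : IsClosedImmersion η[At].left := isClosedImmersion_of_comp_eq_id At.hom η[At].left (Over.w η[At])
  have he₁ : IsClosed ({e₁} : Set At.left) := by
    rw [show ({e₁} : Set At.left) = η[At].left '' {IsLocalRing.closedPoint k} from Set.image_singleton.symm]
    exact η[At].left.isClosedEmbedding.isClosedMap _ (isClosed_singleton (x := IsLocalRing.closedPoint k))
  let S : Set A.left := ψ.left ⁻¹' {e₁}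
  refine ⟨S, ψ.left.finite_preimage_singleton e₁, fun s hs => ?_, fun y hy Ω _ _ σ hσ h => hy ?_⟩
  · refine isClosed_of_closure_subset fun t ht => ?_
    have htS : t ∈ S := closure_minimal (Set.singleton_subset_iff.2 hs) (he₁.preimage ψ.left.continuous) ht
    by_contra hne
    haveI : DiscreteTopology S := isDiscrete_iff_discreteTopology.1 (ψ.left.isDiscrete_preimage_singleton e₁)
    obtain ⟨O, hO, hOt⟩ := isOpen_induced_iff.1 (isOpen_discrete ({⟨t, htS⟩} : Set S))
    have htO : t ∈ O := by
      have : (⟨t, htS⟩ : S) ∈ Subtype.val ⁻¹' O := by rw [hOt]; rfl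
      exact this
    obtain ⟨u', hu', hus⟩ := mem_closure_iff.1 ht O hO htO
    have h2 : (⟨s, hs⟩ : S) ∈ Subtype.val ⁻¹' O := by
      rw [Set.mem_singleton_iff] at hus
      rw [hus] at hu'
      exact hu'
    rw [hOt] at h2
    exact hne (congrArg Subtype.val (Set.mem_singleton_iff.1 h2)).symm
  · let T' : Over (Spec (CommRingCat.of k)) := Over.mk (σ ≫ A.hom)
    let s : T' ⟶ A := Over.homMk σ rfl
    have hlam : pull (A ◁ ψ).left x = MumfordPoincare.lam w := by
      refine Dual.eq_of_dphi hφ (hu.pz.pullT ψ) (MumfordPoincare.pz_lam w) ?_ ?_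
      · rw [PolSym15.rig_pull hu]
        exact (KL.pull_sec_mc w (𝟙 A)).symm
      · rw [PolSym15.dphi_pull_whisker hu hφ]
        rfl
    have h' : pull (A ◁ s).left (MumfordPoincare.lam w) = 1 := by
      have hsw : pull (lift (snd A A) (fst A A)).left (MumfordPoincare.lam w) = MumfordPoincare.lam w := by
        rw [MumfordPoincare.lam, KL.mc, pull_addClass, Category.comp_id, lift_fst, lift_snd, KL.addClass_comm]
      rw [← hsw, ← hlam, pull_pull_over, pull_pull_over]
      have e : A ◁ s ≫ lift (snd A A) (fst A A) ≫ A ◁ ψ = (ψ ▷ T') ≫ At ◁ s ≫ Bidual.swap At A := by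
        rw [lift_whiskerLeft, comp_lift, Bidual.swap, comp_lift, comp_lift]
        congr 1 <;> simp
      rw [Category.assoc, e, ← pull_pull_over, ← pull_pull_over]
      exact (congrArg (pull (ψ ▷ T').left) h).trans (map_one _)
    have h2 := Dual.dphi_pull hφ (MumfordPoincare.pz_lam w) s
    rw [h', Dual.dphi_one hφ, Hom.one_def] at h2
    have h3 := congrArg (fun q : T' ⟶ At => q.left (IsLocalRing.closedPoint Ω)) h2
    show ψ.left y = e₁
    rw [← hσ]
    exact h3.symm.trans (congrArg η[At].left (Subsingleton.elim (α := PrimeSpectrum k) _ _))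

/-- **The other direct image of the Poincaré bundle** is the skyscraper at the origin in degree `g`. -/
theorem exists_fst {g : ℕ} (hg : topologicalKrullDim A.left = g) {P : (A ⊗ At).left.Modules}
    {x : Pic (A ⊗ At).left} (hP : HasCls P x) (hξ : AbDual.IsPoincareCl A At φ (PicF.cl P))
    [HasInjectiveResolutions (At ⊗ A).left.Modules] [HasInjectiveResolutions (A ⊗ At).left.Modules] :
    (∀ q : ℕ, q ≠ g → IsZero ((Coh.Rpush (snd At A).left q).obj
        ((Scheme.Modules.pullback (Bidual.swap At A).left).obj P))) ∧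
      Nonempty ((Coh.Rpush (snd At A).left g).obj ((Scheme.Modules.pullback (Bidual.swap At A).left).obj P) ≅
        (Coh.push η[A].left).obj (Coh.structureModule (Spec (CommRingCat.of k)))) := by
  have hu := PolSym15.isUniv_of_isPoincareCl hP hξ
  let sw := (Bidual.swap At A).left
  let P' := (Scheme.Modules.pullback sw).obj P
  have hP' : HasCls P' (pull sw x) := hP.pullback sw
  obtain ⟨hPi, -⟩ := id hP'
  obtain ⟨S, hSfin, hScl, hSne⟩ := exists_finite_bad hφ hu
  let p := (snd At A).left
  letI : (A ⊗ At).left.Over (Spec (CommRingCat.of k)) := ⟨(A ⊗ At).hom⟩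
  letI : (At ⊗ A).left.Over (Spec (CommRingCat.of k)) := ⟨(At ⊗ A).hom⟩
  letI : A.left.Over (Spec (CommRingCat.of k)) := ⟨A.hom⟩
  haveI : IsProper p := inferInstanceAs (IsProper (pullback.snd At.hom A.hom))
  haveI : Flat p := inferInstanceAs (Flat (pullback.snd At.hom A.hom))
  haveI : GeometricallyIntegral p := inferInstanceAs (GeometricallyIntegral (pullback.snd At.hom A.hom))
  haveI : LocallyOfFinitePresentation p := inferInstanceAs (LocallyOfFinitePresentation (pullback.snd At.hom A.hom))
  haveI : IsLocallyNoetherian A.left := LocallyOfFiniteType.isLocallyNoetherian A.hom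
  haveI : JacobsonSpace A.left := LocallyOfFiniteType.jacobsonSpace A.hom
  haveI : IsProper (A.left ↘ Spec (CommRingCat.of k)) := inferInstanceAs (IsProper A.hom)
  haveI : IsProper ((At ⊗ A).left ↘ Spec (CommRingCat.of k)) :=
    inferInstanceAs (IsProper (pullback.fst At.hom A.hom ≫ At.hom))
  haveI : P'.IsQuasicoherent := InvExt.isQuasicoherent_of_isInvertible hPi
  have hPc : Coh.IsCoh P' := Euler.isCoh_of_isInvertible hPi
  have hfl : FlatMod.IsFlatOver p P' := Seesaw26.isFlatOver_of_isInvertible _ hPi
  have hfp : CohB1.IsFP P' := LocFree8.isFP_of_isFinLocFree _ (Euler.isFinLocFree_of_isInvertible hPi)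
  have hvan : ∀ y ∉ S, ∀ n, Subsingleton (CohIII.fiberH p P' y n) := fun y hy n =>
    subsingleton_fiberH_of_defect hP' (defect_swap hφ hu) y (hSne y hy) n
  let U : A.left.Opens := ⟨Sᶜ, by
    rw [isOpen_compl_iff, ← Set.biUnion_of_singleton S]
    exact hSfin.isClosed_biUnion hScl⟩
  have hsub : ∀ q, CohB1.support ((Coh.Rpush p q).obj P') ⊆ S := fun q w hw => by
    by_contra hne
    exact RpushSupport.notMem_support p P' hPc hfl q U (fun y hy _ => hvan y hy q) (show w ∈ U from hne) hw
  -- the cohomology of the transposed bundle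
  obtain ⟨hc0, hc1⟩ := Skyscraper.cohomology hφ hg hP hξ
  have hdims : ∀ n, Module.finrank k (Coh.HH (At ⊗ A).left P' n) = Module.finrank k (Coh.HH (A ⊗ At).left P n) := by
    intro n
    haveI : IsIso sw := ⟨(Bidual.swap A At).left, by
      constructor <;> rw [← Over.comp_left, ← Over.id_left] <;> congr 1 <;>
        apply CartesianMonoidalCategory.hom_ext <;> simp [Bidual.swap]⟩
    haveI : P.IsQuasicoherent := InvExt.isQuasicoherent_of_isInvertible hP.1
    haveI : IsIso ((Scheme.Modules.pullbackPushforwardAdjunction sw).unit.app P) :=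
      QCoh.isIso_unit_of_killed sw P fun U a ha m => by
        rw [Scheme.Hom.ker_eq_bot_of_isIso] at ha
        rw [show a = 0 by simpa using ha, zero_smul]
    obtain ⟨e⟩ := Snapper.nonempty_HH_linearEquiv_pushforward (A := k) sw (Over.w (Bidual.swap At A)) P' n
    exact ((Euler.hhEquiv (A := k) (asIso ((Scheme.Modules.pullbackPushforwardAdjunction sw).unit.app P)) n).trans e.symm
      ).finrank_eq.symm
  have hL := fun n => Snapper.finrank_HH_eq_of_acyclic_Rpush k (f := p) (Over.w (snd At A)) P' hPc
    (fun q j => Euler.subsingleton_HH_of_finite_support _ (hSfin.subset (hsub q))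
      (fun w hw => hScl w (hsub q hw)) (j + 1) (by omega)) n
  have hzero : ∀ q, q ≠ g → IsZero ((Coh.Rpush p q).obj P') := fun q hq => by
    refine isZero_of_subsingleton_HH _ hSfin hScl (hsub q) ?_
    haveI : FiniteDimensional k (Coh.HH A.left ((Coh.Rpush p q).obj P') 0) :=
      Euler.finiteDimensional_HH k (Cohom.isCoh_Rpush p P' hPc q) 0
    haveI := hc0 q hq
    exact Module.finrank_zero_iff.1 ((hL q).symm.trans ((hdims q).trans Module.finrank_zero_of_subsingleton))
  refine ⟨hzero, ?_⟩
  haveI : IsClosedImmersion η[A].left := isClosedImmersion_of_comp_eq_id A.hom η[A].left (Over.w η[A])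
  let e₀ := η[A].left (IsLocalRing.closedPoint k)
  have hmem : e₀ ∈ CohB1.support ((Coh.Rpush p g).obj P') := by
    by_contra hn
    let W : A.left.Opens := ⟨(S \ {e₀})ᶜ, by
      rw [isOpen_compl_iff, ← Set.biUnion_of_singleton (S \ {e₀})]
      exact hSfin.sdiff.isClosed_biUnion fun s hs => hScl s hs.1⟩
    have hW : ∀ (q : ℕ) (w : A.left), w ∈ W → w ∉ CohB1.support ((Coh.Rpush p q).obj P') := fun q w hw hws => by
      by_cases hq : q = g
      · subst hq
        exact hw ⟨hsub q hws, fun h => hn ((Set.mem_singleton_iff.1 h) ▸ hws)⟩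
      · exact hws (ModuleCat.subsingleton_of_isZero ((OX.stalk w).map_isZero (hzero q hq)))
    have hdimf : topologicalKrullDim ↥(p.fiber e₀) = g := by
      have H : IsPullback (p.fiberι e₀ ≫ (fst At A).left) (p.fiberToSpecResidueField e₀) At.hom
          (A.left.fromSpecResidueField e₀ ≫ A.hom) :=
        (IsPullback.of_hasPullback p (A.left.fromSpecResidueField e₀)).paste_horiz
          (IsPullback.of_hasPullback At.hom A.hom)
      exact (CurveLocus.topologicalKrullDim_of_isPullback At.hom H).trans (DualIsog.dim_dual hφ hg)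
    have h0 := fiberRank_eq_zero_near p P' hPc hfp hfl W hW e₀ (fun h => h.2 rfl) g hdimf.le 0
    have h1 : CohIII.fiberRank p P' 0 e₀ = 1 := by
      refine Seesaw26.fiberRank_eq_one p P' e₀ (Seesaw26.h0_of_geometricallyIntegral p e₀)
        ((hP'.pullback (p.fiberι e₀)).iso (hasCls_structureModule _) ?_)
      have hfac : p.fiberι e₀ ≫ p = (p.fiberι e₀ ≫ p ≫ A.hom) ≫ η[A].left := by
        rw [← Category.assoc (p.fiberι e₀) p, Scheme.Hom.fiber_fac, Category.assoc, Category.assoc,
          Dual.fromSpecResidueField_unit]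
      let Z : Over (Spec (CommRingCat.of k)) := Over.mk (p.fiberι e₀ ≫ (At ⊗ A).hom)
      let j : Z ⟶ At ⊗ A := Over.homMk (p.fiberι e₀) rfl
      have hj : j ≫ snd At A = 1 := by
        apply Over.OverMorphism.ext
        rw [Hom.one_def, Over.comp_left, Over.comp_left]
        refine hfac.trans ?_
        congr 1
        exact (congrArg (p.fiberι e₀ ≫ ·) (Over.w (snd At A)))
      show pull j.left (pull (Bidual.swap At A).left x) = 1
      rw [pull_pull_over, Bidual.swap, comp_lift, hj]
      exact PolSym15.pair_one_left hu _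
    omega
  haveI := Cohom.isQuasicoherent_Rpush p P' g
  refine nonempty_iso_push_point η[A].left (Over.w η[A]) _ hSfin hScl (hsub g) hmem ?_
  exact (hL g).symm.trans ((hdims g).trans hc1)

end GrothLib.FMInv15
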