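import Groth.Agent.Lib.FMInv15.PointSheaf
import Groth.Agent.Lib.Poincare.FibVanish
import Groth.Agent.Lib.PolSym15.Basic
import Groth.Agent.Lib.Poincare.TraceForm

/-!
# The direct image of the Poincaré bundle to the abelian variety
-/

set_option autoImplicit false
set_option linter.all false
set_option backward.isDefEq.respectTransparency false
set_option maxHeartbeats 1000000

universe u

open CategoryTheory CategoryTheory.Limits AlgebraicGeometry Opposite TopologicalSpace
open MonoidalCategory CartesianMonoidalCategory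
open GrothLib.Ample GrothLib.Cube GrothLib.Dual
open scoped MonObj

noncomputable section

namespace GrothLib.FMInv15

variable {k : Type u} [Field k]

/-- Fibres of an additive family over which the class is geometrically nontrivial have no cohomology. -/
theorem subsingleton_fiberH_of_defect {A B : Over (Spec (CommRingCat.of k))} [GrpObj A] [IsProper A.hom]
    [GeometricallyIntegral A.hom] {P : (A ⊗ B).left.Modules} {x : Pic (A ⊗ B).left} (hP : HasCls P x)
    (hdef : defect x = 1) (y : B.left)
    (hne : ∀ (Ω : Type u) [Field Ω] [IsAlgClosed Ω] (σ : Spec (CommRingCat.of Ω) ⟶ B.left),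
      σ (IsLocalRing.closedPoint Ω) = y → pull (A ◁ (Over.homMk σ rfl : Over.mk (σ ≫ B.hom) ⟶ B)).left x ≠ 1) (n : ℕ) :
    Subsingleton (CohIII.fiberH (snd A B).left P y n) := by
  let p := (snd A B).left
  haveI : IsProper p := inferInstanceAs (IsProper (pullback.snd A.hom B.hom))
  let κ := B.left.residueField y
  let Ω := AlgebraicClosure κ
  let b : Spec (CommRingCat.of Ω) ⟶ Spec (CommRingCat.of κ) := Spec.map (CommRingCat.ofHom (algebraMap κ Ω))
  let σ : Spec (CommRingCat.of Ω) ⟶ B.left := b ≫ B.left.fromSpecResidueField y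
  let T' : Over (Spec (CommRingCat.of k)) := Over.mk (σ ≫ B.hom)
  let s : T' ⟶ B := Over.homMk σ rfl
  let F := Over.pullback (σ ≫ B.hom)
  let X := F.obj A
  letI : GrpObj X := Functor.grpObjObj
  haveI : IsProper X.hom := inferInstanceAs (IsProper (pullback.snd A.hom (σ ≫ B.hom)))
  haveI : GeometricallyIntegral X.hom := inferInstanceAs (GeometricallyIntegral (pullback.snd A.hom (σ ≫ B.hom)))
  let z : Pic X.left := pull (A ◁ s).left x
  have hmap : ∀ h : A ⊗ A ⟶ A, (F.map h).left = (h ▷ T').left := fun h => by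
    refine pullback.hom_ext ?_ ?_
    · exact (pullback.lift_fst _ _ _).trans
        (congrArg (fun q : (A ⊗ A) ⊗ T' ⟶ A => q.left) (whiskerRight_fst h T')).symm
    · exact (pullback.lift_snd _ _ _).trans
        (congrArg (fun q : (A ⊗ A) ⊗ T' ⟶ T' => q.left) (whiskerRight_snd h T')).symm
  have key : ∀ h : A ⊗ A ⟶ A, pull ((A ⊗ A) ◁ s).left (pull (h ▷ B).left x) = pull (F.map h).left z := fun h => by
    rw [hmap h]
    show _ = pull (h ▷ T').left (pull (A ◁ s).left x)
    rw [CubeRel26.pull_pull_over, CubeRel26.pull_pull_over, whisker_exchange]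
  have hadd0 : addClass (F.map (fst A A)) (F.map (snd A A)) z = 1 := by
    have h := congrArg (pull ((A ⊗ A) ◁ s).left) hdef
    rw [map_one, defect, map_mul, map_inv, map_mul, key, key, key] at h
    rw [addClass, show F.map (fst A A) * F.map (snd A A) = F.map μ[A] by
      rw [← Functor.map_mul, Hom.mul_def, lift_fst_snd, Category.id_comp]]
    exact h
  have hadd : addClass (fst X X) (snd X X) z = 1 := by
    have h := congrArg (pull (Functor.LaxMonoidal.μ F A A).left) hadd0
    rwa [pull_addClass, Functor.Monoidal.μ_fst, Functor.Monoidal.μ_snd, map_one] at h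
  have hne' : z ≠ 1 := hne Ω σ ((congrArg (B.left.fromSpecResidueField y) rfl).trans (Scheme.fromSpecResidueField_apply y _))
  let g : X.left ⟶ p.fiber y :=
    pullback.lift (A ◁ s).left (pullback.snd A.hom (σ ≫ B.hom) ≫ b) (by
      rw [show (A ◁ s).left ≫ p = pullback.snd A.hom (σ ≫ B.hom) ≫ σ from
        congrArg CategoryTheory.Over.Hom.left (whiskerLeft_snd A s)]
      exact (Category.assoc _ _ _).symm)
  have H : IsPullback g X.hom (p.fiberToSpecResidueField y) b := by
    refine IsPullback.of_right ?_ (pullback.lift_snd _ _ _)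
      (IsPullback.of_hasPullback p (B.left.fromSpecResidueField y))
    rw [pullback.lift_fst]
    refine IsPullback.of_right ?_ (congrArg CategoryTheory.Over.Hom.left (whiskerLeft_snd A s))
      (IsPullback.of_hasPullback A.hom B.hom)
    rw [show (A ◁ s).left ≫ pullback.fst A.hom B.hom = pullback.fst A.hom (σ ≫ B.hom) from
      congrArg CategoryTheory.Over.Hom.left (whiskerLeft_fst A s)]
    exact IsPullback.of_hasPullback A.hom (σ ≫ B.hom)
  have hL : HasCls ((Scheme.Modules.pullback g).obj (CohIII.fiberMod p P y)) z := by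
    have := (hP.pullback (p.fiberι y)).pullback g
    rwa [pull_comp, show g ≫ p.fiberι y = (A ◁ s).left from pullback.lift_fst _ _ _] at this
  obtain ⟨hLi, hLc⟩ := id hL
  have hvan : Subsingleton (Coh.HH X.left ((Scheme.Modules.pullback g).obj (CohIII.fiberMod p P y)) n) := by
    refine PicZeroVanish.subsingleton_HH hLi (by rw [hLc]; exact hadd) (fun ⟨e⟩ => hne' ?_) n
    exact hLc.symm.trans ((clsMod_eq_one_iff hLi).2 ⟨e⟩)
  letI : (p.fiber y).Over (Spec (CommRingCat.of κ)) := ⟨p.fiberToSpecResidueField y⟩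
  letI : X.left.Over (Spec (CommRingCat.of Ω)) := ⟨X.hom⟩
  haveI : IsProper ((p.fiber y) ↘ Spec (CommRingCat.of κ)) :=
    show IsProper (p.fiberToSpecResidueField y) from MorphismProperty.pullback_snd p _ ‹IsProper p›
  exact (Index.subsingleton_HH_pullback_iff (algebraMap κ Ω) g H (Ample.isInvertible_pullback _ hP.choose) n).1 hvan


/-- A fibre over a point near which all direct images vanish has no cohomology. -/
theorem fiberRank_eq_zero_near {X Y : Scheme.{u}} (f : X ⟶ Y) [IsProper f] [IsLocallyNoetherian Y]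
    [HasInjectiveResolutions X.Modules] (F : X.Modules) (hF : Coh.IsCoh F) (hfp : CohB1.IsFP F) (hfl : FlatMod.IsFlatOver f F)
    (W : Y.Opens) (h : ∀ (p : ℕ) (x : Y), x ∈ W → x ∉ CohB1.support ((Coh.Rpush f p).obj F)) (s : Y) (hs : s ∈ W) (d : ℕ)
    (hd : topologicalKrullDim ↥(f.fiber s) ≤ d) (p : ℕ) : CohIII.fiberRank f F p s = 0 := by
  haveI := hF.1
  haveI : Coh.IsQCoh F := hF.1
  have hz : ∀ p, IsZero (((Coh.Rpush f p).obj F).restrict W.ι) := fun p => by
    rw [IsZero.iff_id_eq_zero]
    refine Scheme.Modules.hom_ext _ _ fun U => ?_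
    let Sh : TopCat.Sheaf Ab.{u} Y.carrier := ⟨((Coh.Rpush f p).obj F).presheaf, ((Coh.Rpush f p).obj F).isSheaf⟩
    refine ConcreteCategory.hom_ext _ _ fun z => ?_
    refine TopCat.Presheaf.section_ext Sh (W.ι ''ᵁ U) _ _ fun x hx => ?_
    obtain ⟨x', -, rfl⟩ := hx
    exact @Subsingleton.elim _ (not_not.1 (h p _ x'.2)) _ _
  have key : ∀ k p : ℕ, d + 1 ≤ p + k → CohIII.fiberRank f F p s = 0 := by
    intro k
    induction k with
    | zero => exact fun p hp => BCCrit.fiberRank_eq_zero_of_dim_lt s d p hd (by omega)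
    | succ k ih =>
      intro p hp
      have h2 : BCCrit.GoodAll f F (p : ℤ) s := by
        have := (BCCrit.goodAll_of_fiberRank_eq_zero (p + 1) s (ih (p + 1) (by omega))).2
        simpa using this
      have h1 : BCCrit.GoodAll f F ((p : ℤ) - 1) s :=
        BCCrit.goodAll_pred_of_free p h2 (U := W) (n := 0) hs ((hz p).iso (Euler.isZero_freeMod_zero _))
      obtain ⟨U, n, hsU, ⟨φ⟩, hn⟩ := BCCrit.exists_free_near hfp hfl p s h1 h2
      rw [hn s hsU]
      obtain ⟨e, he⟩ := FinCov.exists_frame_of_iso φ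
      have hy' : s ∈ U.ι ''ᵁ ⊤ := by rw [Scheme.Opens.ι_image_top]; exact hsU
      haveI : Subsingleton (((Coh.Rpush f p).obj F).presheaf.stalk s) := not_not.1 (h p s hs)
      haveI : Subsingleton (Fin n → Y.presheaf.stalk s) := (Ref1.stalk_of_isFrame he s hy').1.subsingleton
      by_contra hn0
      obtain ⟨i⟩ : Nonempty (Fin n) := Fin.pos_iff_nonempty.1 (Nat.pos_of_ne_zero hn0)
      exact one_ne_zero (congrFun (Subsingleton.elim (fun _ : Fin n => (1 : Y.presheaf.stalk s)) 0) i)
  exact key (d + 1) p (by omega)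

end GrothLib.FMInv15
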